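import Groth.Agent.CMRegLib.Mult
import Groth.Agent.HilbLib.Basic
import Groth.Agent.CompleteCurve.ProjSpace
import Groth.Agent.PicProjLib.Pic

/-!
# Regularity in short exact sequences
-/

set_option autoImplicit false
set_option backward.isDefEq.respectTransparency false

universe u

open CategoryTheory CategoryTheory.Limits AlgebraicGeometry TopologicalSpace Opposite
open Groth.Agent.DCohLib Groth.Agent.PullbackMod

noncomputable section

namespace Groth.Agent.CMRegLib

variable {k : Type u} [Field k] {n : ℕ}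

local notation "PS" => CohB1.ProjSpace n k
local notation "O(" d ")" => Twist.twistProjSpace n k d

theorem isNoetherian_projSpace : IsNoetherian PS :=
  haveI : IsProper (PS ↘ Spec (CommRingCat.of k)) := CompleteCurve.isProper_toSpec n k
  EulerIneqLib.isNoetherian_proper (X := PS) k

theorem isInvertible_O (d : ℤ) : PicF.IsInvertible (O(d)) :=
  PicProjLib.isInvertible_twist d

theorem isCoh_tensor_inv {X : Scheme.{u}} [IsLocallyNoetherian X] {M L : X.Modules} (hM : Coh.IsCoh M)
    (hL : PicF.IsInvertible L) : Coh.IsCoh (CohB1.tensorMod M L) :=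
  CurveLib.isCoh_tmod hM (CurveLib.isCoh_of_isInvertible hL)

theorem isCoh_twistBy {M : (PS).Modules} (hM : Coh.IsCoh M) (d : ℤ) : Coh.IsCoh (CohB1.tensorMod M (O(d))) := by
  haveI := isNoetherian_projSpace (k := k) (n := n)
  exact isCoh_tensor_inv (X := PS) (M := M) (L := O(d)) hM (isInvertible_O d)

/-- A short exact sequence, twisted. -/
abbrev twSeq (S : ShortComplex (PS).Modules) (d : ℤ) : ShortComplex (PS).Modules :=
  S.map (CurveLib.tensR (O(d)))

theorem shortExact_twSeq {S : ShortComplex (PS).Modules} (hS : S.ShortExact) (d : ℤ) : (twSeq S d).ShortExact :=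
  CurveLib.shortExact_tensR hS fun x => CurveLib.freeAt_one_of_isInvertible (isInvertible_O d) x

/-- The cohomology of a twist. -/
abbrev HT (M : (PS).Modules) (d : ℤ) (i : ℕ) : Prop :=
  Subsingleton (Coh.HH PS (CohB1.tensorMod M (O(d))) i)

theorem subsingleton_left {X : Scheme.{u}} {S : ShortComplex X.Modules} (hS : S.ShortExact) (q : ℕ)
    (h2 : Subsingleton (Coh.HH X S.X₂ (q + 1))) (h3 : Subsingleton (Coh.HH X S.X₃ q)) :
    Subsingleton (Coh.HH X S.X₁ (q + 1)) := by
  refine CohBase.subsingleton_HH _ _ (subsingleton_of_forall_eq 0 fun z => ?_)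
  haveI : Subsingleton (CohBase.HU (⊤ : X.Opens) (S.map (QCohLib.toAbF X)).X₂ (q + 1)) := SerreAff.subsingleton_HU_top h2
  haveI : Subsingleton (CohBase.HU (⊤ : X.Opens) (S.map (QCohLib.toAbF X)).X₃ q) := SerreAff.subsingleton_HU_top h3
  obtain ⟨y, hy⟩ := Abelian.Ext.covariant_sequence_exact₁ (CohBase.freeAb (⊤ : X.Opens))
    (QCohLib.toAb_shortExact hS) z (Subsingleton.elim _ _) rfl
  rw [← hy, Subsingleton.elim y 0, Abelian.Ext.zero_comp]

theorem HT.iso {M N : (PS).Modules} (e : M ≅ N) {d : ℤ} {i : ℕ} (h : HT M d i) : HT N d i :=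
  haveI := h
  ProjCoh.subsingleton_of_iso (AmpleLib.tIso e (Iso.refl _)) i

theorem HT.twist {M : (PS).Modules} {a b c : ℤ} (e : a + b = c) {i : ℕ} (h : HT M c i) :
    HT (CohB1.tensorMod M (O(a))) b i :=
  @ProjCoh.subsingleton_of_iso _ _ _ (asIso (mulMap M e)).symm i h

theorem HT.untwist {M : (PS).Modules} {a b c : ℤ} (e : a + b = c) {i : ℕ}
    (h : HT (CohB1.tensorMod M (O(a))) b i) : HT M c i :=
  @ProjCoh.subsingleton_of_iso _ _ _ (asIso (mulMap M e)) i h

theorem HT.mid {S : ShortComplex (PS).Modules} (hS : S.ShortExact) {d : ℤ} {i : ℕ}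
    (h1 : HT S.X₁ d i) (h3 : HT S.X₃ d i) : HT S.X₂ d i :=
  SerreAff.subsingleton_mid (shortExact_twSeq hS d) i h1 h3

theorem HT.right {S : ShortComplex (PS).Modules} (hS : S.ShortExact) {d : ℤ} {i : ℕ}
    (h2 : HT S.X₂ d i) (h1 : HT S.X₁ d (i + 1)) : HT S.X₃ d i :=
  subsingleton_right (shortExact_twSeq hS d) i h2 h1

theorem HT.left {S : ShortComplex (PS).Modules} (hS : S.ShortExact) {d : ℤ} {i : ℕ}
    (h2 : HT S.X₂ d (i + 1)) (h3 : HT S.X₃ d i) : HT S.X₁ d (i + 1) :=
  subsingleton_left (shortExact_twSeq hS d) i h2 h3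

/-- The sequence of a monomorphism and its cokernel. -/
theorem shortExact_coker {X : Scheme.{u}} {A B : X.Modules} (f : A ⟶ B) [Mono f] :
    (ShortComplex.mk f (cokernel.π f) (cokernel.condition f)).ShortExact :=
  ShortComplex.ShortExact.mk' (ShortComplex.exact_of_g_is_cokernel _ (cokernelIsCokernel f)) inferInstance inferInstance

/-- The sequence of an epimorphism and its kernel. -/
theorem shortExact_ker {X : Scheme.{u}} {A B : X.Modules} (f : A ⟶ B) [Epi f] :
    (ShortComplex.mk (kernel.ι f) f (kernel.condition f)).ShortExact :=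
  ShortComplex.ShortExact.mk' (ShortComplex.exact_of_f_is_kernel _ (kernelIsKernel f)) inferInstance inferInstance

theorem vanish_of_support {M : (PS).Modules} (hM : Coh.IsCoh M) {r : ℕ}
    (hs : topologicalKrullDim (CohB1.support M) ≤ r) (d : ℤ) {i : ℕ} (hi : r < i) : HT M d i := by
  haveI := isNoetherian_projSpace (k := k) (n := n)
  exact CurveLib.subsingleton_HH_of_support _ (DevLib.isClosed_support hM)
    (HilbLib.support_tensor (isInvertible_O d) M).le hs hi

end Groth.Agent.CMRegLib
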