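import Groth.Agent.CMRegLib.Cones
import Groth.Agent.ProjCoh.MulData
import Groth.Agent.ProjCoh.PSData
import Groth.Agent.SerreAff.Basic

/-!
# The Koszul sequence of multiplication data and its cohomology
-/

set_option autoImplicit false
set_option backward.isDefEq.respectTransparency false

universe u

open CategoryTheory CategoryTheory.Limits AlgebraicGeometry CochainComplex CochainComplex.HomComplex TopologicalSpace
open Groth.Agent.DCohLib Groth.Agent.PullbackMod

noncomputable section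

namespace Groth.Agent.CMRegLib

variable {X : Scheme.{u}} {ι : Type}

/-- The multiplications commute. -/
theorem mulData_comm (T : ProjCoh.MulData X ι) (a b : ι) (d : ℤ) :
    T.μ a (d - 1) ≫ T.μ b d = T.μ b (d - 1) ≫ T.μ a d := by
  refine hom_ext_stalk fun x => LinearMap.ext fun z => ?_
  obtain ⟨i, hx⟩ := Opens.mem_iSup.1 (show x ∈ iSup T.U by rw [T.cover]; trivial)
  rw [stalkLin_comp, stalkLin_comp, LinearMap.comp_apply, LinearMap.comp_apply, T.ratio i a (d - 1) x hx,
    T.ratio i b (d - 1) x hx, map_smul, map_smul, T.ratio i b d x hx, T.ratio i a d x hx, smul_comm]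

/-- The Koszul family of a list of variables, with the augmentation. -/
structure Stage (T : ProjCoh.MulData X ι) extends MFam X ι where
  /-- The augmentation. -/
  ε : ∀ d, (K d).X 0 ⟶ T.F d
  isoε : ∀ d, IsIso (ε d)
  natε : ∀ b d, (μ b d).f 0 ≫ ε d = ε (d - 1) ≫ T.μ b d
  pos : ∀ d (j : ℤ), 0 < j → IsZero ((K d).X j)
  neg : ∃ N : ℕ, ∀ d (j : ℤ), j < -N → IsZero ((K d).X j)
  terms : ∀ (P : X.Modules → Prop), (∀ Z, IsZero Z → P Z) → (∀ A B, P A → P B → P (A ⊞ B)) →
    (∀ {A B}, (A ≅ B) → P A → P B) → ∀ d j : ℤ, P (T.F (d + j)) → P ((K d).X j)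

variable [Fintype ι]

/-- Sums of multiples. -/
def mulSum (T : ProjCoh.MulData X ι) (d : ℤ) (s : Γ(T.F d, ⊤)) : Prop :=
  ∃ c : ι → Γ(T.F (d - 1), ⊤), s = ∑ a, (T.μ a d).app ⊤ (c a)

omit [Fintype ι] in
theorem app_sum_zero (T : ProjCoh.MulData X ι) (d : ℤ) (a : ι) : (T.μ a d).app ⊤ 0 = 0 := map_zero _

/-- The image condition. -/
def Stage.Img {T : ProjCoh.MulData X ι} (S : Stage T) : Prop :=
  ∀ d (y : Γ((S.K d).X (-1), ⊤)), mulSum T d ((S.ε d).app ⊤ (((S.K d).d (-1) 0).app ⊤ y))

/-- The stage of no variables. -/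
def baseStage (T : ProjCoh.MulData X ι) : Stage T where
  K d := (HomologicalComplex.single X.Modules (ComplexShape.up ℤ) 0).obj (T.F d)
  μ b d := (HomologicalComplex.single X.Modules (ComplexShape.up ℤ) 0).map (T.μ b d)
  comm a b d := by rw [← Functor.map_comp, ← Functor.map_comp, mulData_comm]
  ε d := (HomologicalComplex.singleObjXSelf (ComplexShape.up ℤ) 0 (T.F d)).hom
  isoε d := inferInstance
  natε b d := by
    rw [HomologicalComplex.single_map_f_self, Category.assoc, Category.assoc, Iso.inv_hom_id, Category.comp_id]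
  pos d j hj := HomologicalComplex.isZero_single_obj_X _ _ _ _ (by omega)
  neg := ⟨0, fun d j hj => HomologicalComplex.isZero_single_obj_X _ _ _ _ (by simp at hj; omega)⟩
  terms P h0 _ hiso d j hP := by
    rcases eq_or_ne j 0 with rfl | hj
    · rw [add_zero] at hP
      exact hiso (HomologicalComplex.singleObjXSelf (ComplexShape.up ℤ) 0 (T.F d)).symm hP
    · exact h0 _ (HomologicalComplex.isZero_single_obj_X _ _ _ _ hj)

/-- The terms of a cone. -/
def coneXIso {K L : CochainComplex X.Modules ℤ} (φ : K ⟶ L) (j : ℤ) :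
    (mappingCone φ).X j ≅ K.X (j + 1) ⊞ L.X j :=
  HomologicalComplex.homotopyCofiber.XIsoBiprod φ j (j + 1) rfl

/-- Adding a variable. -/
def Stage.step {T : ProjCoh.MulData X ι} (S : Stage T) (a : ι) : Stage T where
  toMFam := S.toMFam.cone a
  ε d := (mappingCone.snd (S.μ a d)).v 0 0 (add_zero 0) ≫ S.ε d
  isoε d := by
    haveI := S.isoε d
    haveI : IsIso ((mappingCone.snd (S.μ a d)).v 0 0 (add_zero 0)) := by
      refine ⟨⟨(mappingCone.inr (S.μ a d)).f 0, ?_, mappingCone.inr_f_snd_v _ 0⟩⟩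
      have h := mappingCone.id_X (S.μ a d) 0 1 rfl
      rw [(S.pos (d - 1) 1 zero_lt_one).eq_of_tgt ((mappingCone.fst (S.μ a d)).1.v 0 1 rfl) 0, zero_comp,
        zero_add] at h
      exact h
    infer_instance
  natε b d := by
    have h : ((S.toMFam.cone a).μ b d).f 0 ≫ (mappingCone.snd (S.μ a d)).v 0 0 (add_zero 0) =
        (mappingCone.snd (S.μ a (d - 1))).v 0 0 (add_zero 0) ≫ (S.μ b d).f 0 := by
      simp [MFam.cone, mappingCone.ext_from_iff _ 1 0 (zero_add 1), mappingCone.map]
    rw [← Category.assoc, h, Category.assoc, S.natε, ← Category.assoc]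
  pos d j hj := IsZero.of_iso (biprod_isZero_iff _ _ |>.2 ⟨S.pos _ _ (by omega), S.pos _ _ hj⟩) (coneXIso _ j)
  neg := by
    obtain ⟨N, hN⟩ := S.neg
    exact ⟨N + 1, fun d j hj => IsZero.of_iso (biprod_isZero_iff _ _ |>.2
      ⟨hN _ _ (by push_cast at hj; omega), hN _ _ (by push_cast at hj; omega)⟩) (coneXIso _ j)⟩
  terms P h0 hbi hiso d j hP := hiso (coneXIso _ j).symm
    (hbi _ _ (S.terms P h0 hbi hiso _ _ (by rwa [show d - 1 + (j + 1) = d + j by omega]))
      (S.terms P h0 hbi hiso _ _ hP))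

/-- The stage of a list. -/
def stage (T : ProjCoh.MulData X ι) : List ι → Stage T
  | [] => baseStage T
  | a :: l => (stage T l).step a

theorem mulSum_add {T : ProjCoh.MulData X ι} {d : ℤ} {s t : Γ(T.F d, ⊤)} (hs : mulSum T d s) (ht : mulSum T d t) :
    mulSum T d (s + t) := by
  obtain ⟨c, rfl⟩ := hs
  obtain ⟨e, rfl⟩ := ht
  exact ⟨c + e, by simp [Finset.sum_add_distrib]⟩

theorem mulSum_zero (T : ProjCoh.MulData X ι) (d : ℤ) : mulSum T d 0 := ⟨0, by simp⟩

theorem mulSum_single (T : ProjCoh.MulData X ι) (d : ℤ) (a : ι) (y : Γ(T.F (d - 1), ⊤)) :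
    mulSum T d ((T.μ a d).app ⊤ y) := by
  classical
  refine ⟨Pi.single a y, ?_⟩
  rw [Finset.sum_eq_single a (fun b _ hb => by rw [Pi.single_eq_of_ne hb, map_zero]) (by simp),
    Pi.single_eq_same]

theorem img_stage (T : ProjCoh.MulData X ι) : ∀ l, (stage T l).Img
  | [] => fun d y => by
      have h : IsZero (((baseStage T).K d).X (-1)) :=
        HomologicalComplex.isZero_single_obj_X _ _ _ _ (by decide)
      have hy : y = 0 := congr($(h.eq_of_src (𝟙 _) 0).app ⊤ y)
      rw [hy, map_zero, map_zero]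
      exact mulSum_zero T d
  | a :: l => fun d y => by
      let S := stage T l
      have h := mappingCone.d_snd_v (S.μ a d) (-1) 0 (by norm_num)
      have h2 : (mappingCone (S.μ a d)).d (-1) 0 ≫ (mappingCone.snd (S.μ a d)).v 0 0 (add_zero 0) ≫ S.ε d =
          (mappingCone.fst (S.μ a d)).1.v (-1) 0 (by norm_num) ≫ S.ε (d - 1) ≫ T.μ a d +
            (mappingCone.snd (S.μ a d)).v (-1) (-1) (add_zero _) ≫ (S.K d).d (-1) 0 ≫ S.ε d := by
        rw [← Category.assoc, h, Preadditive.add_comp, Category.assoc, Category.assoc, S.natε]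
      show mulSum T d (((mappingCone (S.μ a d)).d (-1) 0 ≫ (mappingCone.snd (S.μ a d)).v 0 0 (add_zero 0) ≫ S.ε d).app ⊤ y)
      rw [h2]
      exact mulSum_add (mulSum_single T d a _) (img_stage T l d _)

theorem isIso_stk_stage (T : ProjCoh.MulData X ι) {i : ι} {x : X} (hx : x ∈ T.U i) :
    ∀ l d j, IsIso ((stkF x).map (((stage T l).μ i d).f j))
  | [], d, j => by
      rcases eq_or_ne j 0 with rfl | hj
      · show IsIso ((stkF x).map (((HomologicalComplex.single X.Modules (ComplexShape.up ℤ) 0).map (T.μ i d)).f 0))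
        rw [HomologicalComplex.single_map_f_self]
        haveI : IsIso ((stkF x).map (T.μ i d)) :=
          (ConcreteCategory.isIso_iff_bijective _).2 (T.bij i d x hx)
        rw [Functor.map_comp, Functor.map_comp]
        infer_instance
      · have hs := (stkF x).map_isZero (HomologicalComplex.isZero_single_obj_X (ComplexShape.up ℤ) 0 (T.F (d - 1)) j hj)
        have ht := (stkF x).map_isZero (HomologicalComplex.isZero_single_obj_X (ComplexShape.up ℤ) 0 (T.F d) j hj)
        exact ⟨⟨0, hs.eq_of_src _ _, ht.eq_of_src _ _⟩⟩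
  | a :: l, d, j => isIso_stk_cone (stage T l).toMFam a i x (isIso_stk_stage T hx l) d j

theorem acyclic_stk_stage (T : ProjCoh.MulData X ι) {i : ι} {x : X} (hx : x ∈ T.U i) :
    ∀ l, i ∈ l → ∀ d, ((stkC x).obj ((stage T l).K d)).Acyclic
  | [], h, _ => (List.not_mem_nil h).elim
  | a :: l, h, d => by
      rcases List.mem_cons.1 h with rfl | h
      · exact acyclic_stk_cone (stage T l).toMFam i x d (Or.inl (isIso_stk_stage T hx l d))
      · exact acyclic_stk_cone (stage T l).toMFam a x d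
          (Or.inr ⟨acyclic_stk_stage T hx l h _, acyclic_stk_stage T hx l h d⟩)

theorem acyclic_stage (T : ProjCoh.MulData X ι) (l : List ι) (hl : ∀ i, i ∈ l) (d : ℤ) :
    ((stage T l).K d).Acyclic := fun j => by
  rw [HomologicalComplex.exactAt_iff_isZero_homology, isZero_homology_iff_stkF]
  intro x
  obtain ⟨i, hx⟩ := Opens.mem_iSup.1 (show x ∈ iSup T.U by rw [T.cover]; trivial)
  rw [← HomologicalComplex.exactAt_iff_isZero_homology]
  exact acyclic_stk_stage T hx l (hl i) d j

omit [Fintype ι] in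
/-- The cycle sequences of an exact complex. -/
theorem shortExact_cycles (K : CochainComplex X.Modules ℤ) (hK : K.Acyclic) (i j : ℤ) (hij : i + 1 = j) :
    (ShortComplex.mk (K.iCycles i) (K.toCycles i j)
      (by rw [← cancel_mono (K.iCycles j), Category.assoc, K.toCycles_i, K.iCycles_d, zero_comp])).ShortExact where
  exact := ShortComplex.exact_of_f_is_kernel _ (KernelFork.IsLimit.ofι' (K.iCycles i) _ fun g hg =>
    ⟨K.liftCycles g j (by simp; omega) (by rw [← K.toCycles_i i j, ← Category.assoc, hg, zero_comp]),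
      K.liftCycles_i _ _ _ _⟩)
  epi_g := by
    obtain rfl : i = j - 1 := by omega
    have h := (K.sc' (j - 1) j (j + 1)).exact_iff_epi_toCycles.1
      ((HomologicalComplex.exactAt_iff' K (j - 1) j (j + 1) (by simp) (by simp)).1 (hK j))
    have e := HomologicalComplex.toCycles_cyclesIsoSc'_hom K (i := j - 1) (j := j) (k := j + 1) (by simp) (by simp)
    show Epi (K.toCycles (j - 1) j)
    haveI : Epi (K.toCycles (j - 1) j ≫ (K.cyclesIsoSc' (j - 1) j (j + 1) (by simp) (by simp)).hom) := by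
      rw [e]; exact h
    exact (epi_comp_iff_of_isIso (K.toCycles (j - 1) j) _).1 this

omit [Fintype ι] in
/-- Cohomology on the right of a short exact sequence. -/
theorem subsingleton_right {S : ShortComplex X.Modules} (hS : S.ShortExact) (q : ℕ)
    (h2 : Subsingleton (Coh.HH X S.X₂ q)) (h1 : Subsingleton (Coh.HH X S.X₁ (q + 1))) :
    Subsingleton (Coh.HH X S.X₃ q) := by
  refine CohBase.subsingleton_HH _ _ (subsingleton_of_forall_eq 0 fun z => ?_)
  have h2' := SerreAff.subsingleton_HU_top h2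
  have h1' := SerreAff.subsingleton_HU_top h1
  haveI : Subsingleton (CohBase.HU (⊤ : X.Opens) (S.map (QCohLib.toAbF X)).X₁ (q + 1)) := h1'
  haveI : Subsingleton (CohBase.HU (⊤ : X.Opens) (S.map (QCohLib.toAbF X)).X₂ q) := h2'
  obtain ⟨y, hy⟩ := Abelian.Ext.covariant_sequence_exact₃ (CohBase.freeAb (⊤ : X.Opens))
    (QCohLib.toAb_shortExact hS) z rfl (Subsingleton.elim _ _)
  rw [← hy, Subsingleton.elim y 0, Abelian.Ext.zero_comp]

omit [Fintype ι] in
/-- Cohomology of zero. -/
theorem subsingleton_zero {M : X.Modules} (hM : IsZero M) (q : ℕ) : Subsingleton (Coh.HH X M q) := by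
  refine CohBase.subsingleton_HH _ _ (subsingleton_of_forall_eq 0 fun z => ?_)
  have h0 : IsZero (Coh.toAb M) := Functor.map_isZero (QCohLib.toAbF X) hM
  rw [← Abelian.Ext.comp_mk₀_id z, h0.eq_of_src (𝟙 _) 0, Abelian.Ext.mk₀_zero, Abelian.Ext.comp_zero]

omit [Fintype ι] in
/-- Cohomology of cycles of a bounded exact complex. -/
theorem subsingleton_cycles (K : CochainComplex X.Modules ℤ) (hK : K.Acyclic) {N : ℕ}
    (hN : ∀ j : ℤ, j < -N → IsZero (K.X j)) : ∀ (m k : ℕ), N < k + m → ∀ q : ℕ,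
      (∀ e : ℕ, Subsingleton (Coh.HH X (K.X (-(k + 1 + e : ℕ))) (q + e))) →
      Subsingleton (Coh.HH X (K.cycles (-(k : ℤ))) q)
  | 0, k, hk, q, _ => subsingleton_zero
      (IsZero.of_mono (K.iCycles (-(k : ℤ))) (hN _ (by omega))) q
  | m + 1, k, hk, q, h => by
      refine subsingleton_right (shortExact_cycles K hK (-((k + 1 : ℕ) : ℤ)) (-(k : ℤ)) (by push_cast; omega)) q
        (by simpa using h 0) (subsingleton_cycles K hK hN m (k + 1) (by omega) (q + 1) fun e => ?_)
      have := h (e + 1)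
      rwa [show k + 1 + 1 + e = k + 1 + (e + 1) by omega, show q + 1 + e = q + (e + 1) by omega]

theorem subsingleton_biprod (q : ℕ) (A B : X.Modules) (hA : Subsingleton (Coh.HH X A q))
    (hB : Subsingleton (Coh.HH X B q)) : Subsingleton (Coh.HH X (A ⊞ B) q) :=
  SerreAff.subsingleton_mid (T := ShortComplex.mk (biprod.inl : A ⟶ A ⊞ B) biprod.snd biprod.inl_snd)
    (ShortComplex.Splitting.ofHasBinaryBiproduct A B).shortExact q hA hB

theorem subsingleton_term {T : ProjCoh.MulData X ι} (S : Stage T) (q : ℕ) (d j : ℤ)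
    (h : Subsingleton (Coh.HH X (T.F (d + j)) q)) : Subsingleton (Coh.HH X ((S.K d).X j) q) :=
  S.terms (fun M => Subsingleton (Coh.HH X M q)) (fun _ hZ => subsingleton_zero hZ q)
    (fun _ _ hA hB => subsingleton_biprod q _ _ hA hB)
    (fun e hA => @ProjCoh.subsingleton_of_iso _ _ _ e q hA) d j h

/-- The Koszul vanishing. -/
theorem koszul_vanish (T : ProjCoh.MulData X ι) (d : ℤ) (q : ℕ)
    (h : ∀ e : ℕ, Subsingleton (Coh.HH X (T.F (d - (1 + e : ℕ))) (q + e))) :
    Subsingleton (Coh.HH X (T.F d) q) := by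
  classical
  let S := stage T (Finset.univ : Finset ι).toList
  have hK := acyclic_stage T _ (fun i => Finset.mem_toList.2 (Finset.mem_univ i)) d
  obtain ⟨N, hN⟩ := S.neg
  have h0 := subsingleton_cycles (S.K d) hK (hN d) (N + 1) 0 (by omega) q fun e => by
    refine subsingleton_term S _ _ _ ?_
    have := h e
    rwa [show d + -(((0 + 1 + e : ℕ)) : ℤ) = d - ((1 + e : ℕ) : ℤ) by push_cast; ring]
  haveI := (S.K d).isIso_iCycles 0 1 (by simp) ((S.pos d 1 zero_lt_one).eq_of_tgt _ _)
  haveI := S.isoε d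
  exact @ProjCoh.subsingleton_of_iso _ _ _ (asIso ((S.K d).iCycles 0) ≪≫ asIso (S.ε d)) q (by simpa using h0)

/-- The Koszul surjectivity on global sections. -/
theorem koszul_surj (T : ProjCoh.MulData X ι) (d : ℤ)
    (h : ∀ e : ℕ, Subsingleton (Coh.HH X (T.F (d - (2 + e : ℕ))) (1 + e))) (s : Γ(T.F d, ⊤)) :
    mulSum T d s := by
  classical
  let S := stage T (Finset.univ : Finset ι).toList
  have hK := acyclic_stage T _ (fun i => Finset.mem_toList.2 (Finset.mem_univ i)) d
  obtain ⟨N, hN⟩ := S.neg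
  have h1 : Subsingleton (Coh.HH X ((S.K d).cycles (-1)) 1) := by
    simpa using subsingleton_cycles (S.K d) hK (hN d) (N + 1) 1 (by omega) 1 fun e => by
      refine subsingleton_term S _ _ _ ?_
      have := h e
      rwa [show d + -(((1 + 1 + e : ℕ)) : ℤ) = d - ((2 + e : ℕ) : ℤ) by push_cast; ring]
  have hse := shortExact_cycles (S.K d) hK (-1) 0 (by norm_num)
  haveI := (S.K d).isIso_iCycles 0 1 (by simp) ((S.pos d 1 zero_lt_one).eq_of_tgt _ _)
  haveI := S.isoε d
  haveI : Subsingleton (CohBase.HU (⊤ : X.Opens)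
      (Coh.toAb ((S.K d).cycles (-1))) 1) :=
    SerreAff.subsingleton_HU_top h1
  obtain ⟨z, hz⟩ := @CohBase.sections_surjective _ _ _ (QCohLib.toAb_shortExact hse) ⊤
    (SerreAff.subsingleton_HU_top h1)
    ((inv (S.ε d) ≫ inv ((S.K d).iCycles 0)).app ⊤ s)
  have := img_stage T _ d z
  convert this using 2
  show s = (((S.K d).d (-1) 0) ≫ S.ε d).app ⊤ z
  rw [← (S.K d).toCycles_i (-1) 0]
  show s = (S.ε d).app ⊤ (((S.K d).iCycles 0).app ⊤ (((S.K d).toCycles (-1) 0).app ⊤ z))
  rw [show ((S.K d).toCycles (-1) 0).app ⊤ z = _ from hz]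
  exact (congr($(show (inv (S.ε d) ≫ inv ((S.K d).iCycles 0)) ≫ (S.K d).iCycles 0 ≫ S.ε d = 𝟙 _ by simp).app ⊤ s)).symm

end Groth.Agent.CMRegLib
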