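import Groth.Agent.CMRegLib.QuotBound
import Groth.Agent.VBLib.Atiyah
import Groth.Agent.BCLib.TensorFun
import Groth.Agent.AmpleEmb.FibreAmple
import Groth.Prelude.Def_FGA

/-!
# Regular modules with given Hilbert polynomial form a bounded family
-/

set_option autoImplicit false
set_option linter.style.haveILetI false
set_option backward.isDefEq.respectTransparency false
set_option maxHeartbeats 400000

universe u

open CategoryTheory CategoryTheory.Limits AlgebraicGeometry TopologicalSpace Opposite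
open Groth.Agent.DCohLib Groth.Agent.PullbackMod

noncomputable section

namespace Groth.Agent.CMRegLib

section Family

variable (k : Type u) [Field k] {X : Scheme.{u}} [X.Over (Spec (CommRingCat.of k))]

theorem cst_eq_smulMod (E : X.Modules) (c : k) : (VBLib.cst k E c : E ⟶ E) = Formal.smulMod k E c :=
  ((VBLib.cst_eq_iff k).2 rfl).symm

theorem exists_hom_coords (A : X.Modules) [Module.Finite k (Coh.HH X A 0)] :
    ∃ (d : ℕ) (E : Fin d → (Coh.structureModule X ⟶ A)), ∀ g : Coh.structureModule X ⟶ A,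
      ∃ c : Fin d → k, g = ∑ b, E b ≫ Formal.smulMod k A (c b) := by
  classical
  let bas := Module.finBasis k (Coh.HH X A 0)
  refine ⟨_, fun b => VBLib.H0SS.sH (bas b), fun g => ?_⟩
  let w := (CurveLib.secOf A).symm (AmpleLib.sec g)
  have hw : VBLib.H0SS.sH w = g := by rw [VBLib.H0SS.sH, AddEquiv.apply_symm_apply, AmpleLib.secHom_sec]
  refine ⟨fun b => bas.repr w b, hw.symm.trans ?_⟩
  let φ : Coh.HH X A 0 →+ (Coh.structureModule X ⟶ A) := AddMonoidHom.mk' VBLib.H0SS.sH VBLib.H0SS.sH_add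
  refine (congrArg φ (bas.sum_repr w).symm).trans ((map_sum φ _ _).trans ?_)
  refine Finset.sum_congr rfl fun b _ => ?_
  rw [← cst_eq_smulMod]
  exact VBLib.Secant.secHom_smul k A _ _

open VBLib VBLib.H0SS in
/-- The evaluation map of a globally generated module is an epimorphism. -/
theorem exists_epi_of_gg {W : X.Modules} (hgg : Curv2.IsGloballyGenerated W)
    [Module.Finite k (Coh.HH X W 0)] :
    ∃ Φ : FlatMod.freeMod X (Module.finrank k (Coh.HH X W 0)) ⟶ W, Epi Φ := by
  classical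
  let bas := Module.finBasis k (Coh.HH X W 0)
  let O := Coh.structureModule X
  let Φ : FlatMod.freeMod X (Module.finrank k (Coh.HH X W 0)) ⟶ W := Sigma.desc fun i => sH (bas i)
  have hfac : ∀ w : Coh.HH X W 0, ∃ l : O ⟶ FlatMod.freeMod X (Module.finrank k (Coh.HH X W 0)), l ≫ Φ = sH w := by
    intro w
    have hw : w ∈ Submodule.span k (Set.range bas) := by rw [bas.span_eq]; trivial
    induction hw using Submodule.span_induction with
    | mem v hv =>
      obtain ⟨i, rfl⟩ := hv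
      exact ⟨Sigma.ι (fun _ : Fin _ => Coh.structureModule X) i, Sigma.ι_desc _ _⟩
    | zero => exact ⟨0, by rw [zero_comp, sH_zero]⟩
    | add a b _ _ ha hb =>
      obtain ⟨la, hla⟩ := ha
      obtain ⟨lb, hlb⟩ := hb
      exact ⟨la + lb, by rw [Preadditive.add_comp, hla, hlb, sH_add]⟩
    | smul c a _ ha =>
      obtain ⟨la, hla⟩ := ha
      refine ⟨(cst k O c : O ⟶ O) ≫ la, ?_⟩
      rw [Category.assoc, hla, cst_natural]
      exact (VBLib.Secant.secHom_smul k W c a).symm
  refine ⟨Φ, ?_⟩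
  obtain ⟨J, p, hp⟩ := hgg
  haveI := hp
  refine ⟨fun {Z} u v huv => ?_⟩
  rw [← cancel_epi p]
  refine Sigma.hom_ext _ _ fun j => ?_
  obtain ⟨l, hl⟩ := hfac ((CurveLib.secOf W).symm (AmpleLib.sec (Sigma.ι (fun _ : J => O) j ≫ p)))
  rw [sH, AddEquiv.apply_symm_apply, AmpleLib.secHom_sec] at hl
  rw [← Category.assoc, ← Category.assoc]
  refine (congrArg (· ≫ u) hl).symm.trans (Eq.trans ?_ (congrArg (· ≫ v) hl))
  rw [Category.assoc, Category.assoc, huv]

/-- Cokernels of maps from a free module, twisted, form a bounded family. -/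
theorem isBounded_cokernels [IsProper (X ↘ Spec (CommRingCat.of k))] (D : ℕ) {A L : X.Modules} (hA : Coh.IsCoh A)
    (hL : PicF.IsInvertible L) :
    Pic13.IsBounded k X fun F => ∃ u : FlatMod.freeMod X D ⟶ A, Nonempty (F ≅ CohB1.tensorMod (cokernel u) L) := by
  classical
  haveI := EulerIneqLib.finite_HH (k := k) (X := X) hA 0
  obtain ⟨d, E, hE⟩ := exists_hom_coords k A
  let R := MvPolynomial (Fin D × Fin d) k
  let q : Spec (CommRingCat.of R) ⟶ Spec (CommRingCat.of k) := Spec.map (CommRingCat.ofHom (algebraMap k R))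
  have hft : LocallyOfFiniteType q :=
    HasRingHomProperty.Spec_iff.2 (RingHom.finiteType_algebraMap.2 inferInstance)
  haveI := hft
  let pr : Pic13.prodK k X q ⟶ X := pullback.fst _ _
  let sn : Pic13.prodK k X q ⟶ Spec (CommRingCat.of R) := pullback.snd _ _
  haveI : LocallyOfFiniteType sn :=
    inferInstanceAs (LocallyOfFiniteType (pullback.snd (X ↘ Spec (CommRingCat.of k)) q))
  haveI : IsLocallyNoetherian (Pic13.prodK k X q) := LocallyOfFiniteType.isLocallyNoetherian sn
  haveI := EulerIneqLib.isNoetherian_proper (X := X) k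
  have hfree : Coh.IsCoh (FlatMod.freeMod X D) := isCoh_sigma_fin _ fun _ => DevLib.isCoh_structureModule _
  let A' := (Scheme.Modules.pullback pr).obj A
  haveI : Coh.IsQCoh A' := (PullbackMod.isCoh_pullback pr A hA).1
  let x : Fin D × Fin d → Γ(Pic13.prodK k X q, ⊤) := fun p =>
    sn.appTop ((Scheme.ΓSpecIso (CommRingCat.of R)).inv (MvPolynomial.X p : R))
  let pj : Fin D → (FlatMod.freeMod X D ⟶ Coh.structureModule X) := fun a =>
    Sigma.desc fun a' => if a' = a then 𝟙 _ else 0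
  let U : (Scheme.Modules.pullback pr).obj (FlatMod.freeMod X D) ⟶ A' :=
    ∑ p : Fin D × Fin d, (Scheme.Modules.pullback pr).map (pj p.1 ≫ E p.2) ≫ Formal.smulModΓ A' (x p)
  refine ⟨Spec (CommRingCat.of R), q, hft, inferInstance,
    CohB1.tensorMod (cokernel U) ((Scheme.Modules.pullback pr).obj L), ?_, fun F ⟨u, hu⟩ => ?_⟩
  · exact isCoh_tensor_inv (QCohLib.isCoh_kernel_cokernel U (PullbackMod.isCoh_pullback pr _ hfree)
      (PullbackMod.isCoh_pullback pr A hA)).2 (AmpleLib.isInvertible_pullback pr hL)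
  obtain ⟨eF⟩ := hu
  choose c hc using fun a : Fin D => hE (Sigma.ι (fun _ : Fin D => Coh.structureModule X) a ≫ u)
  let ev : R →+* k := MvPolynomial.eval fun p => c p.1 p.2
  let t : Spec (CommRingCat.of k) ⟶ Spec (CommRingCat.of R) := Spec.map (CommRingCat.ofHom ev)
  have ht : t ≫ q = 𝟙 _ := by
    rw [← Spec.map_comp, ← Spec.map_id]
    exact congrArg Spec.map (CommRingCat.hom_ext (RingHom.ext fun a => MvPolynomial.eval_C (f := fun p : Fin D × Fin d => c p.1 p.2) a))
  refine ⟨t, ht, ?_⟩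
  let s := Pic13.sliceAt k X q t ht
  let N : Scheme.Modules.pullback pr ⋙ Scheme.Modules.pullback s ≅ 𝟭 X.Modules :=
    Scheme.Modules.pullbackComp s pr ≪≫ Scheme.Modules.pullbackCongr (pullback.lift_fst _ _ _) ≪≫
      Scheme.Modules.pullbackId X
  have hx : ∀ p, s.appTop (x p) = Coh.toGlobal (X ↘ Spec (CommRingCat.of k)) (c p.1 p.2) := by
    intro p
    have h1 : s ≫ sn = (X ↘ Spec (CommRingCat.of k)) ≫ t := pullback.lift_snd _ _ _
    have h2 := congrArg (fun g => g ((Scheme.ΓSpecIso (CommRingCat.of R)).inv (MvPolynomial.X p : R)))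
      (congrArg Scheme.Hom.appTop h1)
    refine (show s.appTop (x p) = _ from h2).trans ?_
    show (X ↘ Spec (CommRingCat.of k)).appTop (t.appTop _) = _
    refine congrArg _ ((congr($(Scheme.ΓSpecIso_inv_naturality (CommRingCat.ofHom ev))
      (MvPolynomial.X p : R))).symm.trans ?_)
    exact congrArg (Scheme.ΓSpecIso (CommRingCat.of k)).inv.hom (MvPolynomial.eval_X (f := fun p' : Fin D × Fin d => c p'.1 p'.2) p)
  have hU : (Scheme.Modules.pullback s).map U ≫ N.hom.app A = N.hom.app (FlatMod.freeMod X D) ≫ u := by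
    have hu' : u = ∑ p : Fin D × Fin d, (pj p.1 ≫ E p.2) ≫ Formal.smulMod k A (c p.1 p.2) := by
      refine Sigma.hom_ext _ _ fun a => ?_
      rw [hc a, Fintype.sum_prod_type, Preadditive.comp_sum, Finset.sum_eq_single a]
      · rw [Preadditive.comp_sum]
        refine Finset.sum_congr rfl fun b _ => ?_
        rw [Category.assoc, Sigma.ι_desc_assoc, if_pos rfl, Category.id_comp]
      · intro a' _ ha
        rw [Preadditive.comp_sum]
        refine Finset.sum_eq_zero fun b _ => ?_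
        rw [Category.assoc, Sigma.ι_desc_assoc, if_neg (Ne.symm ha), zero_comp]
      · exact fun h => (h (Finset.mem_univ _)).elim
    rw [hu', Functor.map_sum, Preadditive.sum_comp, Preadditive.comp_sum]
    refine Finset.sum_congr rfl fun p _ => ?_
    rw [Functor.map_comp, Category.assoc, BCLib.pullback_map_smulModΓ, AmpleEmb.smulModΓ_natural, hx p]
    refine (Category.assoc _ _ _).symm.trans ?_
    refine ((congrArg (· ≫ _) (N.hom.naturality (pj p.1 ≫ E p.2))).trans ?_)
    exact Category.assoc _ _ _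
  let eC : (Scheme.Modules.pullback s).obj (cokernel U) ≅ cokernel u :=
    haveI : PreservesColimitsOfSize.{u, u} (Scheme.Modules.pullback s) :=
      (Scheme.Modules.pullbackPushforwardAdjunction s).leftAdjoint_preservesColimits
    haveI : PreservesColimitsOfSize.{0, 0} (Scheme.Modules.pullback s) := preservesColimitsOfSize_shrink.{0, u, 0, u} _
    PreservesCokernel.iso (Scheme.Modules.pullback s) U ≪≫ cokernel.mapIso _ _ (N.app _) (N.app _) hU
  exact ⟨AmpleLib.pullTensor s _ _ ≪≫ AmpleLib.tIso eC (N.app L) ≪≫ eF.symm⟩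

end Family

section Regular

theorem finrank_H0_left {k : Type u} [Field k] {X : Scheme.{u}} [X.Over (Spec (CommRingCat.of k))]
    [IsProper (X ↘ Spec (CommRingCat.of k))] {S : ShortComplex X.Modules} (hS : S.ShortExact) (h : Coh.IsCoh S.X₂) :
    Module.finrank k (Coh.HH X S.X₁ 0) ≤ Module.finrank k (Coh.HH X S.X₂ 0) :=
  haveI := EulerIneqLib.finite_HH (k := k) (X := X) h 0
  LinearMap.finrank_le_finrank_of_injective (f := CurveLib.hMap (k := k) S.f 0) (CurveLib.hMap_f_zero_injective (k := k) hS)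

variable {k : Type u} [Field k] {n : ℕ} {X : Scheme.{u}} (i : X ⟶ CohB1.ProjSpace n k)

/-- `F(0) ≅ F`. -/
def xZero (F : X.Modules) : Pic13.twistOn k i F 0 ≅ F :=
  AmpleLib.tIso (Iso.refl F) ((Scheme.Modules.pullback i).mapIso
    (asIso (ProjCoh.unitToTwist (CohB1.polyGrading n k))).symm ≪≫ pullStructureIso i) ≪≫ AmpleLib.unitR F

variable [IsClosedImmersion i] [X.Over (Spec (CommRingCat.of k))]

theorem eulerCharLE_eq (hi : i ≫ CohB1.ProjSpace.toSpec n k = X ↘ Spec (CommRingCat.of k)) {F : X.Modules}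
    (hF : Coh.IsCoh F) (d : ℤ) :
    FGA.eulerCharLE k X (Pic13.twistOn k i F d) n = Curv2.euler k X (Pic13.twistOn k i F d) := by
  haveI : IsProper (X ↘ Spec (CommRingCat.of k)) := by
    haveI : IsProper (CohB1.ProjSpace.toSpec n k) := CompleteCurve.isProper_toSpec n k
    rw [← hi]; infer_instance
  exact (CurveLib.euler_eq_sum (K := k) _ (n + 1) fun p hp =>
    (HT_push_iff i hF d p).1 (vanish_high (isCoh_push_closed i hF) d (by omega))).symm

theorem isBounded_quot [IsAlgClosed k] (hi : i ≫ CohB1.ProjSpace.toSpec n k = X ↘ Spec (CommRingCat.of k))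
    (N : ℕ) (m e : ℤ) :
    Pic13.IsBounded k X (fun F : X.Modules => Coh.IsCoh F ∧ ∃ q : FlatMod.freeMod X N ⟶ Pic13.twistOn k i F m,
      Epi q ∧ Curv2.IsGloballyGenerated (Pic13.twistOn k i (kernel q) e)) := by
  classical
  haveI : IsProper (X ↘ Spec (CommRingCat.of k)) := by
    haveI : IsProper (CohB1.ProjSpace.toSpec n k) := CompleteCurve.isProper_toSpec n k
    rw [← hi]; infer_instance
  haveI := EulerIneqLib.isNoetherian_proper (X := X) k
  have hfree : Coh.IsCoh (FlatMod.freeMod X N) := isCoh_sigma_fin _ fun _ => DevLib.isCoh_structureModule _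
  let A := Pic13.twistOn k i (FlatMod.freeMod X N) e
  let D := Module.finrank k (Coh.HH X A 0)
  obtain ⟨T, t, h1, h2, U, hU, hb⟩ := isBounded_cokernels k D (A := A) (xIsCoh_twist hfree e)
    (AmpleLib.isInvertible_pullback i (isInvertible_O (-(m + e))))
  refine ⟨T, t, h1, h2, U, hU, fun F ⟨hF, q, hq, hgg⟩ => hb F ?_⟩
  haveI := hq
  have hF' : Coh.IsCoh (Pic13.twistOn k i F m) := xIsCoh_twist hF m
  have hS := xShortExact k i (shortExact_ker q) e
  have hG : Coh.IsCoh (Pic13.twistOn k i (kernel q) e) :=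
    xIsCoh_twist (QCohLib.isCoh_kernel_cokernel q hfree hF').1 e
  haveI := EulerIneqLib.finite_HH (k := k) (X := X) hG 0
  haveI := EulerIneqLib.finite_HH (k := k) (X := X) (xIsCoh_twist hfree (i := i) e) 0
  obtain ⟨ψ, hψ⟩ := exists_epi_of_gg k hgg
  let r := Module.finrank k (Coh.HH X (Pic13.twistOn k i (kernel q) e) 0)
  have hr : r ≤ D := by
    let S' := (ShortComplex.mk (kernel.ι q) q (kernel.condition q)).map (xTens k i e)
    let e1 : Pic13.twistOn k i (kernel q) e ≅ S'.X₁ := Iso.refl _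
    let e2 : S'.X₂ ≅ Pic13.twistOn k i (FlatMod.freeMod X N) e := Iso.refl _
    have hc : Coh.IsCoh S'.X₂ := xIsCoh_twist (k := k) (i := i) hfree e
    exact ((hh_finrank_iso (k := k) e1 0).le.trans (finrank_H0_left (k := k) (S := S') hS hc)).trans
      (hh_finrank_iso (k := k) e2 0).le
  let pad : FlatMod.freeMod X D ⟶ FlatMod.freeMod X r :=
    Sigma.desc fun a => if h : (a : ℕ) < r then Sigma.ι (fun _ : Fin r => Coh.structureModule X) ⟨a, h⟩ else 0
  haveI : IsSplitEpi pad := ⟨⟨⟨Sigma.desc fun a =>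
      Sigma.ι (fun _ : Fin D => Coh.structureModule X) (Fin.castLE hr a),
    Sigma.hom_ext _ _ fun a => by simp [pad]⟩⟩⟩
  let u : FlatMod.freeMod X D ⟶ A := (pad ≫ ψ) ≫ (xTens k i e).map (kernel.ι q)
  haveI : Epi (pad ≫ ψ) := epi_comp _ _
  let c : cokernel u ≅ Pic13.twistOn k i F (m + e) :=
    cokernelEpiComp (pad ≫ ψ) ((xTens k i e).map (kernel.ι q)) ≪≫
      (colimit.isColimit _).coconePointUniqueUpToIso hS.gIsCokernel ≪≫ xMulIso k i F rfl
  exact ⟨u, ⟨(xZero i F).symm ≪≫ (xMulIso k i F (show (m + e) + -(m + e) = 0 by ring)).symm ≪≫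
    AmpleLib.tIso c.symm (Iso.refl _)⟩⟩

theorem isBounded_regular [IsAlgClosed k] (hi : i ≫ CohB1.ProjSpace.toSpec n k = X ↘ Spec (CommRingCat.of k))
    (m : ℤ) (φ : Polynomial ℚ) :
    Pic13.IsBounded k X (fun F : X.Modules => Coh.IsCoh F ∧ Pic13.IsMRegular k i F m ∧
      ∀ d : ℤ, (FGA.eulerCharLE k X (Pic13.twistOn k i F d) n : ℚ) = φ.eval (d : ℚ)) := by
  classical
  haveI : IsProper (X ↘ Spec (CommRingCat.of k)) := by
    haveI : IsProper (CohB1.ProjSpace.toSpec n k) := CompleteCurve.isProper_toSpec n k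
    rw [← hi]; infer_instance
  haveI := EulerIneqLib.isNoetherian_proper (X := X) k
  let N : ℕ := ⌊φ.eval (m : ℚ)⌋.toNat
  obtain ⟨e, he⟩ := quot_bound i hi N (φ.comp (Polynomial.X + Polynomial.C (m : ℚ)))
  obtain ⟨T, t, h1, h2, U, hU, hb⟩ := isBounded_quot i hi N m e
  refine ⟨T, t, h1, h2, U, hU, fun F ⟨hF, hreg, hφ⟩ => hb F ⟨hF, ?_⟩⟩
  have hD : DataReg (xData k i F) m := hreg
  let F' := Pic13.twistOn k i F m
  have hF' : Coh.IsCoh F' := xIsCoh_twist hF m
  haveI := EulerIneqLib.finite_HH (k := k) (X := X) hF' 0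
  have hN : Module.finrank k (Coh.HH X F' 0) = N := by
    have h := hφ m
    rw [eulerCharLE_eq i hi hF, CurveLib.euler_eq_sum (K := k) (Pic13.twistOn k i F m) 1 fun p hp =>
      hD.vanish_ge hp (by omega)] at h
    simp only [Finset.sum_range_one, pow_zero, one_mul, Int.cast_natCast] at h
    show _ = ⌊φ.eval (m : ℚ)⌋.toNat
    rw [← h, Int.floor_natCast, Int.toNat_natCast]
  obtain ⟨q₀, hq₀⟩ := exists_epi_of_gg k (W := F') (hD.globallyGenerated (spanAt_eventually k i hF))
  obtain ⟨q, hq⟩ : ∃ q : FlatMod.freeMod X N ⟶ F', Epi q := by rw [← hN]; exact ⟨q₀, hq₀⟩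
  obtain ⟨-, -, hgg⟩ := he F' q hF' hq (fun j => by
    rw [Polynomial.eval_comp, Polynomial.eval_add, Polynomial.eval_X, Polynomial.eval_C,
      show (j : ℚ) + (m : ℚ) = ((m + j : ℤ) : ℚ) by push_cast; ring, ← hφ, eulerCharLE_eq i hi hF]
    exact congrArg Int.cast (CurveLib.euler_iso (K := k) (xMulIso k i F (show m + (j : ℤ) = m + j from rfl))))
    e le_rfl
  exact ⟨q, hq, hgg⟩

theorem exists_epi_free_of_gg [IsAlgClosed k] (hi : i ≫ CohB1.ProjSpace.toSpec n k = X ↘ Spec (CommRingCat.of k))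
    {W : X.Modules} (hW : Coh.IsCoh W) (hgg : Curv2.IsGloballyGenerated W) :
    ∃ (N : ℕ) (q : FlatMod.freeMod X N ⟶ W), Epi q := by
  haveI : IsProper (X ↘ Spec (CommRingCat.of k)) := by
    haveI : IsProper (CohB1.ProjSpace.toSpec n k) := CompleteCurve.isProper_toSpec n k
    rw [← hi]; infer_instance
  haveI := EulerIneqLib.finite_HH (k := k) (X := X) hW 0
  exact ⟨_, exists_epi_of_gg k hgg⟩

/-- Quotients of a fixed module with Hilbert functions in a finite set form a bounded family. -/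
theorem isBounded_quotients [IsAlgClosed k] (hi : i ≫ CohB1.ProjSpace.toSpec n k = X ↘ Spec (CommRingCat.of k))
    {E : X.Modules} (hE : Coh.IsCoh E) {a : ℤ} (hgg : Curv2.IsGloballyGenerated (Pic13.twistOn k i E a))
    (Φ : Set (Polynomial ℚ)) (hΦ : Φ.Finite) :
    Pic13.IsBounded k X (fun F : X.Modules => Coh.IsCoh F ∧ (∃ p : E ⟶ F, Epi p) ∧
      ∃ P ∈ Φ, ∀ d : ℤ, (Curv2.euler k X (Pic13.twistOn k i F d) : ℚ) = P.eval (d : ℚ)) := by
  classical
  haveI : IsProper (X ↘ Spec (CommRingCat.of k)) := by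
    haveI : IsProper (CohB1.ProjSpace.toSpec n k) := CompleteCurve.isProper_toSpec n k
    rw [← hi]; infer_instance
  obtain ⟨N, p₀, hp₀⟩ := exists_epi_free_of_gg i hi (xIsCoh_twist hE a) hgg
  choose e he using fun P : Polynomial ℚ => quot_bound i hi N (P.comp (Polynomial.X + Polynomial.C (a : ℚ)))
  obtain ⟨e₀, he₀⟩ := (hΦ.image e).bddAbove
  obtain ⟨T, t, h1, h2, U, hU, hb⟩ := isBounded_quot i hi N a e₀
  refine ⟨T, t, h1, h2, U, hU, fun F ⟨hF, ⟨p, hp⟩, P, hP, hφ⟩ => hb F ⟨hF, ?_⟩⟩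
  haveI := hp
  haveI := hp₀
  haveI : Epi ((xTens k i a).map p) := (xShortExact k i (shortExact_ker p) a).epi_g
  let q : FlatMod.freeMod X N ⟶ Pic13.twistOn k i F a := p₀ ≫ (xTens k i a).map p
  have hq : Epi q := epi_comp _ _
  refine ⟨q, hq, ((he P) (Pic13.twistOn k i F a) q (xIsCoh_twist hF a) hq (fun j => ?_)
    e₀ (he₀ ⟨P, hP, rfl⟩)).2.2⟩
  rw [Polynomial.eval_comp, Polynomial.eval_add, Polynomial.eval_X, Polynomial.eval_C,
    show (j : ℚ) + (a : ℚ) = ((a + j : ℤ) : ℚ) by push_cast; ring, ← hφ]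
  exact congrArg Int.cast (CurveLib.euler_iso (K := k) (xMulIso k i F (show a + (j : ℤ) = a + j from rfl)))

end Regular

end Groth.Agent.CMRegLib
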