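import Groth.Agent.KRRAmple.Basic
import Groth.Agent.CMRegLib.Bounded
import Groth.Agent.HilbStratLib.Finite

/-!
# Bounded families are uniformly quotients of a twisted free module
-/

set_option autoImplicit false
set_option linter.style.haveILetI false
set_option backward.isDefEq.respectTransparency false

universe u

open CategoryTheory CategoryTheory.Limits AlgebraicGeometry TopologicalSpace Opposite
open Groth.Agent.PullbackMod Groth.Agent.DCohLib Groth.Agent.ParaFLib Groth.Agent.AmpleLib Groth.Agent.KRRAmple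

noncomputable section

namespace Groth.Agent.CMRegLib

section Gen

variable {X : Scheme.{u}}

/-- A globally generated quasi-coherent module of finite type on a compact scheme is generated by finitely many sections. -/
theorem exists_epi_free_qcoh [CompactSpace X] {M : X.Modules} (hq : Coh.IsQCoh M) (hft : CohB1.IsFT M)
    (hg : Curv2.IsGloballyGenerated M) :
    ∃ (N : ℕ) (p : FlatMod.freeMod X N ⟶ M), Epi p := by
  classical
  haveI := hq
  have hloc : ∀ x : X, ∃ (S : Finset Γ(M, ⊤)) (W : X.Opens), x ∈ W ∧ ∀ y ∈ W,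
      Function.Surjective (stalkLin (genHom M S) y) := by
    intro x
    haveI := finite_stalk_of_isFT hft x
    have hs := ProjBundleLib.span_germ_of_isGloballyGenerated hg x
    obtain ⟨t, ht, hts⟩ := (Submodule.fg_span_iff_fg_span_finset_subset _).1
      (hs.symm ▸ Module.Finite.fg_top : (Submodule.span (X.presheaf.stalk x)
        (Set.range fun σ : Γ(M, ⊤) => M.presheaf.germ ⊤ x (Opens.mem_top x) σ)).FG)
    rw [← Set.image_univ] at ht
    obtain ⟨S, -, hSt⟩ := Finset.subset_set_image_iff.1 ht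
    let q := genHom M S
    have hmem : ∀ σ : Γ(M, ⊤), σ ∈ S →
        M.presheaf.germ ⊤ x (Opens.mem_top x) σ ∈ LinearMap.range (stalkLin q x) := fun σ hσ => by
      obtain ⟨j, hj⟩ : ∃ j, (S.equivFin.symm j).1 = σ := ⟨S.equivFin ⟨σ, hσ⟩, by simp⟩
      refine AmpleEmb.range_stalkLin_le (A := Coh.structureModule X)
        (fun j => secHom M (S.equivFin.symm j).1) j (𝟙 _) x ?_
      rw [Category.id_comp, hj]
      exact ⟨oneG x, stalkLin_secHom M σ x⟩
    haveI : Coh.IsQCoh (cokernel q) :=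
      (QCohLib.isQCoh_image q (isQCoh_and_isFP_of_isFinLocFree _ (isFinLocFree_freeMod _)).1 hq).2
    have hQ : CohB1.IsFT (cokernel q) := S4812.isFT_of_epi hft (cokernel.π q)
    have hx : x ∉ CohB1.support (cokernel q) := fun h => h (subsingleton_of_forall_eq 0 fun z => by
      obtain ⟨m, rfl⟩ := (PullbackMod.epi_iff_stalk (cokernel.π q)).1 inferInstance x z
      obtain ⟨w, rfl⟩ : m ∈ LinearMap.range (stalkLin q x) := by
        have htop : m ∈ Submodule.span (X.presheaf.stalk x) (t : Set (M.presheaf.stalk x)) := by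
          rw [← hts, hs]
          exact Submodule.mem_top
        refine Submodule.span_le.2 ?_ htop
        intro z hz
        rw [← hSt, Finset.coe_image] at hz
        obtain ⟨σ, hσ, rfl⟩ := hz
        exact hmem σ hσ
      rw [← LinearMap.comp_apply, ← stalkLin_comp, cokernel.condition,
        (eq_zero_iff_stalk (0 : FlatMod.freeMod X S.card ⟶ cokernel q)).1 rfl x]
      rfl)
    exact ⟨S, ⟨_, (isClosed_support_of_isFT hQ).isOpen_compl⟩, hx, fun y hy =>
      surjective_stalk_of_subsingleton_cokernel q y (not_not.1 hy)⟩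
  choose S W hxW hW using hloc
  obtain ⟨T, hT⟩ := isCompact_univ.elim_finite_subcover (fun x : X => (W x : Set X)) (fun x => (W x).2)
    (fun x _ => Set.mem_iUnion.2 ⟨x, hxW x⟩)
  refine ⟨(T.biUnion S).card, genHom M (T.biUnion S), (epi_iff_stalk _).2 fun y z => ?_⟩
  obtain ⟨x, hxT, hy⟩ := Set.mem_iUnion₂.1 (hT (Set.mem_univ y))
  obtain ⟨i, hi⟩ := genHom_mono M (Finset.subset_biUnion_of_mem S hxT)
  obtain ⟨w, hw⟩ := hW x y hy z
  rw [← hi, stalkLin_comp] at hw
  exact ⟨_, hw⟩

end Gen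

variable {k : Type u} [Field k] {n : ℕ} {X : Scheme.{u}} [X.Over (Spec (CommRingCat.of k))]
  (i : X ⟶ CohB1.ProjSpace n k) [IsClosedImmersion i]

theorem exists_uniform_quot (hi : i ≫ CohB1.ProjSpace.toSpec n k = X ↘ Spec (CommRingCat.of k))
    {P : X.Modules → Prop} (hb : Pic13.IsBounded k X P) :
    ∃ (a : ℕ) (N : ℕ), ∀ F, P F → ∃ q : FlatMod.freeMod X N ⟶ Pic13.twistOn k i F (a : ℤ), Epi q := by
  classical
  haveI : IsProper (X ↘ Spec (CommRingCat.of k)) := by
    haveI : IsProper (CohB1.ProjSpace.toSpec n k) := CompleteCurve.isProper_toSpec n k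
    rw [← hi]; infer_instance
  obtain ⟨T, q, hq, hqc, G, hG, hmem⟩ := hb
  haveI := hq
  haveI := hqc
  haveI : CompactSpace T := QuasiCompact.compactSpace_of_compactSpace q
  let 𝒰 := T.affineCover.finiteSubcover
  let L := (Scheme.Modules.pullback i).obj (Twist.twistProjSpace n k 1)
  have hL : CohB1.IsAmple L := isAmple_pullback i (AmpleEmb.isAmple_twistOne n k)
  let g : ∀ j : 𝒰.I₀, pullback (X ↘ Spec (CommRingCat.of k)) (𝒰.f j ≫ q) ⟶ Pic13.prodK k X q := fun j =>
    pullback.map _ _ _ _ (𝟙 X) (𝒰.f j) (𝟙 _) (by simp) (by simp)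
  have key : ∀ j : 𝒰.I₀, ∃ a : ℕ, ∀ b, a ≤ b → ∃ (N : ℕ) (φ : FlatMod.freeMod _ N ⟶
      CohB1.tensorMod ((Scheme.Modules.pullback (g j)).obj G)
        (CohB1.tensorPow ((Scheme.Modules.pullback (pullback.fst _ (𝒰.f j ≫ q))).obj L) b)), Epi φ := fun j => by
    haveI : IsAffine (𝒰.X j) := by dsimp [𝒰]; infer_instance
    haveI : IsAffineHom (pullback.fst (X ↘ Spec (CommRingCat.of k)) (𝒰.f j ≫ q)) :=
      MorphismProperty.pullback_fst (P := @IsAffineHom) _ _ inferInstance
    haveI : LocallyOfFiniteType (𝒰.f j ≫ q) := inferInstance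
    haveI : IsLocallyNoetherian (𝒰.X j) := LocallyOfFiniteType.isLocallyNoetherian (𝒰.f j ≫ q)
    haveI : IsLocallyNoetherian T := LocallyOfFiniteType.isLocallyNoetherian q
    haveI : LocallyOfFiniteType (pullback.snd (X ↘ Spec (CommRingCat.of k)) (𝒰.f j ≫ q)) :=
      MorphismProperty.pullback_snd (P := @LocallyOfFiniteType) _ _ inferInstance
    haveI : LocallyOfFiniteType (pullback.snd (X ↘ Spec (CommRingCat.of k)) q) :=
      MorphismProperty.pullback_snd (P := @LocallyOfFiniteType) _ _ inferInstance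
    haveI : IsLocallyNoetherian (pullback (X ↘ Spec (CommRingCat.of k)) (𝒰.f j ≫ q)) :=
      LocallyOfFiniteType.isLocallyNoetherian (pullback.snd _ (𝒰.f j ≫ q))
    haveI : IsLocallyNoetherian (Pic13.prodK k X q) :=
      LocallyOfFiniteType.isLocallyNoetherian (pullback.snd (X ↘ Spec (CommRingCat.of k)) q)
    have hamp := isAmple_pullback (pullback.fst (X ↘ Spec (CommRingCat.of k)) (𝒰.f j ≫ q)) hL
    have hM := PullbackMod.isCoh_pullback (g j) G hG
    obtain ⟨a, ha⟩ := AmpleEmb.eventually_isGloballyGenerated hamp hM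
    refine ⟨a, fun b hb => ?_⟩
    haveI := hamp.2.1
    have hc := isCoh_tensor_inv hM (isInvertible_tensorPow hamp.1 b)
    exact exists_epi_free_qcoh hc.1 hc.2 (ha b hb)
  choose a ha using key
  haveI : Finite 𝒰.I₀ := inferInstance
  letI : Fintype 𝒰.I₀ := Fintype.ofFinite _
  let A := Finset.univ.sup a
  choose Nj φ hφ using fun j => ha j A (Finset.le_sup (Finset.mem_univ j))
  refine ⟨A, Finset.univ.sup Nj, fun F hF => ?_⟩
  obtain ⟨t, ht, ⟨eF⟩⟩ := hmem F hF
  obtain ⟨j, y, hy⟩ := 𝒰.exists_eq (t (IsLocalRing.closedPoint k))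
  have hrange : Set.range t ⊆ Set.range (𝒰.f j) := by
    rintro _ ⟨x, rfl⟩
    exact ⟨y, hy.trans (congrArg _ (Subsingleton.elim _ _))⟩
  let t' := IsOpenImmersion.lift (𝒰.f j) t hrange
  have ht' : t' ≫ 𝒰.f j = t := IsOpenImmersion.lift_fac _ _ _
  let s : X ⟶ pullback (X ↘ Spec (CommRingCat.of k)) (𝒰.f j ≫ q) :=
    pullback.lift (𝟙 X) ((X ↘ Spec (CommRingCat.of k)) ≫ t')
      (by rw [Category.id_comp, Category.assoc, reassoc_of% ht', ht, Category.comp_id])
  have hsg : s ≫ g j = Pic13.sliceAt k X q t ht := by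
    apply pullback.hom_ext
    · simp [s, g, Pic13.sliceAt]
    · simp [s, g, Pic13.sliceAt, ht']
  haveI : PreservesColimitsOfSize.{u, u} (Scheme.Modules.pullback s) :=
    (Scheme.Modules.pullbackPushforwardAdjunction s).leftAdjoint_preservesColimits
  haveI : PreservesColimitsOfSize.{0, 0} (Scheme.Modules.pullback s) := preservesColimitsOfSize_shrink.{0, u, 0, u} _
  haveI := hφ j
  haveI : Epi ((Scheme.Modules.pullback s).map (φ j)) := inferInstance
  let eL : (Scheme.Modules.pullback s).obj ((Scheme.Modules.pullback (pullback.fst _ (𝒰.f j ≫ q))).obj L) ≅ L :=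
    (Scheme.Modules.pullbackComp s _).app L ≪≫ (Scheme.Modules.pullbackCongr (pullback.lift_fst _ _ _)).app L ≪≫
      (Scheme.Modules.pullbackId X).app L
  let e : (Scheme.Modules.pullback s).obj (CohB1.tensorMod ((Scheme.Modules.pullback (g j)).obj G)
        (CohB1.tensorPow ((Scheme.Modules.pullback (pullback.fst _ (𝒰.f j ≫ q))).obj L) A)) ≅
      Pic13.twistOn k i F (A : ℤ) :=
    pullTensor s _ _ ≪≫ tIso ((Scheme.Modules.pullbackComp s (g j)).app G ≪≫
      (Scheme.Modules.pullbackCongr hsg).app G ≪≫ eF) (pullPow s _ A ≪≫ powCongr eL A) ≪≫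
      twistPowIso i (Iso.refl L) F A
  have hle : Nj j ≤ Finset.univ.sup Nj := Finset.le_sup (Finset.mem_univ j)
  let pad : FlatMod.freeMod X (Finset.univ.sup Nj) ⟶ FlatMod.freeMod X (Nj j) :=
    Sigma.desc fun b => if h : (b : ℕ) < Nj j then Sigma.ι (fun _ : Fin (Nj j) => Coh.structureModule X) ⟨b, h⟩ else 0
  haveI : IsSplitEpi pad := ⟨⟨⟨Sigma.desc fun b =>
      Sigma.ι (fun _ : Fin (Finset.univ.sup Nj) => Coh.structureModule X) (Fin.castLE hle b),
    Sigma.hom_ext _ _ fun b => by simp [pad]⟩⟩⟩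
  exact ⟨pad ≫ (DCohLib.pullFreeIso s (Nj j)).inv ≫ (Scheme.Modules.pullback s).map (φ j) ≫ e.hom, inferInstance⟩

end Groth.Agent.CMRegLib
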