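import Groth.Agent.CMRegLib.Seq
import Groth.Agent.CurveLib.Euler
import Groth.Agent.BCLib.Gamma
import Groth.Agent.EulerIneqLib.Basic

/-!
# Regularity from a regular hyperplane section
-/

set_option autoImplicit false
set_option backward.isDefEq.respectTransparency false

universe u

open CategoryTheory CategoryTheory.Limits AlgebraicGeometry TopologicalSpace Opposite
open Groth.Agent.DCohLib Groth.Agent.PullbackMod

noncomputable section

namespace Groth.Agent.CMRegLib

variable {k : Type u} [Field k] {n : ℕ}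

local notation "PS" => CohB1.ProjSpace n k
local notation "O(" d ")" => Twist.twistProjSpace n k d

theorem eventually_vanish {F : (PS).Modules} (hF : Coh.IsCoh F) {p : ℕ} (hp : 0 < p) :
    ∃ d₀ : ℤ, ∀ d, d₀ ≤ d → HT F d p := by
  have hgen : Algebra.adjoin k (Set.range fun a => (AmpleEmb.coordForm n k a).1) = ⊤ :=
    MvPolynomial.adjoin_range_X
  obtain ⟨d₀, h⟩ := ProjCoh.exists_vanishing (CohB1.polyGrading n k) (AmpleEmb.coordForm n k) hgen
    (𝟙 (Proj (CohB1.polyGrading n k))) F hF p hp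
  refine ⟨d₀, fun d hd => @ProjCoh.subsingleton_of_iso _ _ _ ?_ p (h d hd)⟩
  exact AmpleLib.tIso (Iso.refl F) ((Scheme.Modules.pullbackId _).app (Twist.twist (CohB1.polyGrading n k) d))

variable {F G : (CohB1.ProjSpace n k).Modules}

theorem μ_natural (π : F ⟶ G) (v : Fin (n + 1)) (j : ℤ) :
    (projData k n F).μ v j ≫ (CurveLib.tensR (O(j))).map π =
      (CurveLib.tensR (O(j - 1))).map π ≫ (projData k n G).μ v j :=
  ((DCoh.tensorBi (X := PS)).map π).naturality (ProjCoh.mulTwist (CohB1.polyGrading n k) (AmpleEmb.coordForm n k v) j)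

/-- Surjectivity of a map on twisted global sections. -/
abbrev SurjAt (π : F ⟶ G) (j : ℤ) : Prop :=
  Function.Surjective (((CurveLib.tensR (O(j))).map π).app ⊤)

theorem surjAt_succ (hG : Coh.IsCoh G) {m : ℤ} (hm : Curv2.IsMRegular k n G m) (π : F ⟶ G) {j : ℤ}
    (hj : m < j) (h : SurjAt π (j - 1)) : SurjAt π j := by
  intro s
  obtain ⟨c, rfl⟩ := sum_surj hG hm hj s
  choose b hb using fun v => h (c v)
  refine ⟨∑ v, ((projData k n F).μ v j).app ⊤ (b v), ?_⟩
  rw [map_sum]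
  refine Finset.sum_congr rfl fun v _ => ?_
  refine (congr($(μ_natural π v j).app ⊤ (b v))).trans ?_
  exact congrArg _ (hb v)

theorem surjective_hMap_zero {X : Scheme.{u}} [X.Over (Spec (CommRingCat.of k))] {M N : X.Modules} (φ : M ⟶ N) :
    Function.Surjective (CurveLib.hMap (k := k) φ 0) ↔ Function.Surjective (φ.app ⊤) := by
  constructor
  · intro h s
    obtain ⟨z, hz⟩ := h (RpushLib.h0Γ N s)
    refine ⟨(RpushLib.h0Γ M).symm z, (RpushLib.h0Γ N).injective ?_⟩
    rw [BCLib.h0Γ_natural, AddEquiv.apply_symm_apply]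
    exact hz
  · intro h z
    obtain ⟨s, hs⟩ := h ((RpushLib.h0Γ N).symm z)
    refine ⟨RpushLib.h0Γ M s, ?_⟩
    refine (BCLib.h0Γ_natural φ s).symm.trans ?_
    rw [hs, AddEquiv.apply_symm_apply]

/-- Dimension of `H¹` of a twist. -/
abbrev h1 (M : (PS).Modules) (j : ℤ) : ℕ := Module.finrank k (Coh.HH PS (CohB1.tensorMod M (O(j))) 1)

theorem finrank_iso_tensor {A : (PS).Modules} (e : A ≅ CohB1.tensorMod F (O(-1))) {j c : ℤ} (h : -1 + j = c) :
    Module.finrank k (Coh.HH PS (CohB1.tensorMod A (O(j))) 1) = h1 F c := by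
  let i : CohB1.tensorMod A (O(j)) ≅ CohB1.tensorMod F (O(c)) :=
    AmpleLib.tIso e (Iso.refl _) ≪≫ @asIso _ _ _ _ (mulMap F h) (isIso_mulMap F h)
  exact (LinearEquiv.ofLinearMap (CurveLib.hMap (k := k) i.hom 1) (CurveLib.hMap i.inv 1)
      (LinearMap.ext fun x => by
        show Sheaf.H.map _ 1 (Sheaf.H.map _ 1 x) = x
        rw [← Sheaf.H.map_comp_apply, ← Functor.map_comp, i.inv_hom_id, CategoryTheory.Functor.map_id,
          Sheaf.H.map_id_apply])
      (LinearMap.ext fun x => by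
        show Sheaf.H.map _ 1 (Sheaf.H.map _ 1 x) = x
        rw [← Sheaf.H.map_comp_apply, ← Functor.map_comp, i.hom_inv_id, CategoryTheory.Functor.map_id,
          Sheaf.H.map_id_apply])).finrank_eq

variable {A : (CohB1.ProjSpace n k).Modules} {ι : A ⟶ F} {π : F ⟶ G} {w : ι ≫ π = 0}

/-- `H¹(F(j-1)) → H¹(F(j))` in a hyperplane sequence. -/
theorem h1_facts (hF : Coh.IsCoh F) (hG : Coh.IsCoh G) (hA : Coh.IsCoh A) (e : A ≅ CohB1.tensorMod F (O(-1)))
    (hS : (ShortComplex.mk ι π w).ShortExact) {m : ℤ} (hm : Curv2.IsMRegular k n G m) {j : ℤ} (hj : m - 1 ≤ j) :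
    h1 F j ≤ h1 F (j - 1) ∧ (h1 F j = h1 F (j - 1) → SurjAt π j) ∧ (SurjAt π j → h1 F j = h1 F (j - 1)) := by
  haveI : IsProper (PS ↘ Spec (CommRingCat.of k)) := CompleteCurve.isProper_toSpec n k
  have hT := shortExact_twSeq hS j
  let f := CurveLib.hMap (k := k) (twSeq (ShortComplex.mk ι π w) j).f 1
  haveI hz : Subsingleton (Coh.HH PS (twSeq (ShortComplex.mk ι π w) j).X₃ 1) :=
    vanish_ge hG hm le_rfl (by push_cast; omega)
  have hsurj : Function.Surjective f := by
    rw [← LinearMap.range_eq_top, CurveLib.range_hMap_f hT 1]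
    exact eq_top_iff.2 fun z _ => Subsingleton.elim _ _
  haveI := EulerIneqLib.finite_HH (k := k) (X := PS) (M := (twSeq (ShortComplex.mk ι π w) j).X₁)
    (isCoh_twistBy hA j) 1
  haveI := EulerIneqLib.finite_HH (k := k) (X := PS) (M := (twSeq (ShortComplex.mk ι π w) j).X₂)
    (isCoh_twistBy hF j) 1
  have hdim : Module.finrank k (Coh.HH PS (twSeq (ShortComplex.mk ι π w) j).X₁ 1) = h1 F (j - 1) :=
    finrank_iso_tensor e (show -1 + j = j - 1 by ring)
  have hle' : h1 F j ≤ h1 F (j - 1) := hdim ▸ LinearMap.finrank_le_finrank_of_surjective hsurj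
  have hinj : Function.Injective f ↔ SurjAt π j := by
    refine Iff.trans ?_ (surjective_hMap_zero (k := k) (twSeq (ShortComplex.mk ι π w) j).g)
    rw [← LinearMap.ker_eq_bot, ← CurveLib.range_hδ hT 0, LinearMap.range_eq_bot, ← LinearMap.ker_eq_top,
      ← CurveLib.range_hMap_g hT 0, LinearMap.range_eq_top]
  refine ⟨hle', fun he => hinj.1 ?_, fun hs => ?_⟩
  · exact (LinearMap.injective_iff_surjective_of_finrank_eq_finrank
      (show Module.finrank k (Coh.HH PS (twSeq (ShortComplex.mk ι π w) j).X₁ 1) =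
        Module.finrank k (Coh.HH PS (twSeq (ShortComplex.mk ι π w) j).X₂ 1) from hdim.trans he.symm) (f := f)).2 hsurj
  · exact ((LinearEquiv.ofBijective f ⟨hinj.2 hs, hsurj⟩).finrank_eq.symm.trans hdim)

/-- `F(-1) → F → G` with `G` regular: the conclusions. -/
theorem drop_main (hF : Coh.IsCoh F) (hG : Coh.IsCoh G) (hA : Coh.IsCoh A) (e : A ≅ CohB1.tensorMod F (O(-1)))
    (hS : (ShortComplex.mk ι π w).ShortExact) {m : ℤ} (hm : Curv2.IsMRegular k n G m) :
    (∀ (i : ℕ) (j : ℤ), 2 ≤ i → m - i ≤ j → HT F j i) ∧ (∀ j : ℤ, m - 1 ≤ j → h1 F j ≤ h1 F (j - 1)) ∧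
      (∀ j : ℤ, m - 1 + (h1 F (m - 1) : ℤ) ≤ j → HT F j 1) ∧ Curv2.IsMRegular k n F (m + h1 F (m - 1)) := by
  have hi : ∀ (i : ℕ) (j : ℤ), 2 ≤ i → m - i ≤ j → HT F j i := by
    intro i j hi hj
    obtain ⟨d₀, hd⟩ := eventually_vanish hF (p := i) (by omega)
    obtain ⟨q, rfl⟩ : ∃ q, i = q + 1 := ⟨i - 1, by omega⟩
    have key : ∀ (N : ℕ) (j : ℤ), m - ((q + 1 : ℕ) : ℤ) ≤ j → d₀ ≤ j + N → HT F j (q + 1) := by
      intro N
      induction N with
      | zero => exact fun j _ h => hd j (by simpa using h)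
      | succ N ih =>
        intro j hj h
        have h2 : HT F (j + 1) (q + 1) := ih (j + 1) (by omega) (by push_cast at h; omega)
        have h3 : HT G (j + 1) q := vanish_ge hG hm (by omega) (by push_cast at hj; omega)
        exact ((HT.left hS h2 h3).iso e).untwist (show -1 + (j + 1) = j by ring)
    exact key (d₀ - j).toNat j hj (by omega)
  have hii : ∀ j : ℤ, m - 1 ≤ j → h1 F j ≤ h1 F (j - 1) := fun j hj => (h1_facts hF hG hA e hS hm hj).1
  haveI : IsProper (PS ↘ Spec (CommRingCat.of k)) := CompleteCurve.isProper_toSpec n k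
  obtain ⟨d₁, hd₁⟩ := eventually_vanish hF (p := 1) one_pos
  have hiii : ∀ N : ℕ, h1 F (m - 1 + N) = 0 ∨ h1 F (m - 1 + N) + N ≤ h1 F (m - 1) := by
    intro N
    induction N with
    | zero => exact Or.inr (by simp)
    | succ N ih =>
      have hle : h1 F (m - 1 + (N + 1 : ℕ)) ≤ h1 F (m - 1 + N) := by
        have := hii (m - 1 + (N + 1 : ℕ)) (by omega)
        rwa [show m - 1 + ((N + 1 : ℕ) : ℤ) - 1 = m - 1 + N by push_cast; ring] at this
      rcases eq_or_ne (h1 F (m - 1 + (N + 1 : ℕ))) 0 with h0 | h0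
      · exact Or.inl h0
      refine Or.inr ?_
      rcases ih with ih | ih
      · omega
      rcases hle.lt_or_eq with hlt | heq
      · omega
      exfalso
      have hs : SurjAt π (m - 1 + (N + 1 : ℕ)) := (h1_facts hF hG hA e hS hm (by omega)).2.1 (by
        rwa [show m - 1 + ((N + 1 : ℕ) : ℤ) - 1 = m - 1 + N by push_cast; ring])
      have hconst : ∀ l : ℕ, SurjAt π (m - 1 + (N + 1 : ℕ) + l) ∧
          h1 F (m - 1 + (N + 1 : ℕ) + l) = h1 F (m - 1 + (N + 1 : ℕ)) := by
        intro l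
        induction l with
        | zero => simpa using hs
        | succ l ihl =>
          have e1 : m - 1 + ((N + 1 : ℕ) : ℤ) + ((l + 1 : ℕ) : ℤ) - 1 = m - 1 + (N + 1 : ℕ) + l := by push_cast; ring
          have hs' : SurjAt π (m - 1 + (N + 1 : ℕ) + (l + 1 : ℕ)) :=
            surjAt_succ hG hm π (by push_cast; omega) (by rw [e1]; exact ihl.1)
          refine ⟨hs', ?_⟩
          rw [(h1_facts hF hG hA e hS hm (by omega)).2.2 hs', e1]
          exact ihl.2
      have hz := (hconst (d₁ - (m - 1 + (N + 1 : ℕ))).toNat).2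
      haveI := hd₁ (m - 1 + (N + 1 : ℕ) + (d₁ - (m - 1 + (N + 1 : ℕ))).toNat) (by omega)
      rw [h1, Module.finrank_zero_of_subsingleton] at hz
      exact h0 hz.symm
  have hiii' : ∀ j : ℤ, m - 1 + (h1 F (m - 1) : ℤ) ≤ j → HT F j 1 := by
    intro j hj
    obtain ⟨N, rfl⟩ : ∃ N : ℕ, j = m - 1 + N := ⟨(j - (m - 1)).toNat, by omega⟩
    haveI := EulerIneqLib.finite_HH (k := k) (X := PS) (isCoh_twistBy hF (m - 1 + N)) 1
    refine Module.finrank_zero_iff.1 (show h1 F (m - 1 + N) = 0 from ?_)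
    rcases hiii N with h | h <;> omega
  refine ⟨hi, hii, hiii', fun i h1i _ => ?_⟩
  rcases Nat.lt_or_ge i 2 with h | h
  · obtain rfl : i = 1 := by omega
    exact hiii' _ (by push_cast; omega)
  · exact hi i _ h (by omega)

end Groth.Agent.CMRegLib
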