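import Groth.Agent.CMRegLib.Drop
import Groth.Agent.AmpleLib.Pullback
import Groth.Prelude.Def_Pic13

/-!
# Regularity on a closed subscheme of projective space
-/

set_option autoImplicit false
set_option backward.isDefEq.respectTransparency false

universe u

open CategoryTheory CategoryTheory.Limits AlgebraicGeometry TopologicalSpace Opposite
open Groth.Agent.DCohLib Groth.Agent.PullbackMod

noncomputable section

namespace Groth.Agent.CMRegLib

section Generic

variable {X : Scheme.{u}} {ι : Type} [Fintype ι]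

/-- Regularity of multiplication data. -/
def DataReg (T : ProjCoh.MulData X ι) (m : ℤ) : Prop :=
  ∀ q : ℕ, 1 ≤ q → Subsingleton (Coh.HH X (T.F (m - q)) q)

theorem DataReg.succ {T : ProjCoh.MulData X ι} {m : ℤ} (h : DataReg T m) : DataReg T (m + 1) := fun q hq =>
  koszul_vanish T _ q fun e => by
    rw [show m + 1 - (q : ℤ) - ((1 + e : ℕ) : ℤ) = m - ((q + e : ℕ) : ℤ) by push_cast; ring]
    exact h _ (by omega)

theorem DataReg.mono {T : ProjCoh.MulData X ι} {m m' : ℤ} (hm : m ≤ m') (h : DataReg T m) : DataReg T m' := by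
  induction m', hm using Int.le_induction with
  | base => exact h
  | succ j _ ih => exact ih.succ

theorem DataReg.vanish_ge {T : ProjCoh.MulData X ι} {m : ℤ} (h : DataReg T m) {q : ℕ} (hq : 1 ≤ q) {d : ℤ}
    (hd : m - q ≤ d) : Subsingleton (Coh.HH X (T.F d) q) := by
  have := h.mono (show m ≤ d + q by omega) q hq
  rwa [add_sub_cancel_right] at this

theorem DataReg.sum_surj {T : ProjCoh.MulData X ι} {m : ℤ} (h : DataReg T m) {d : ℤ} (hd : m < d)
    (s : Γ(T.F d, ⊤)) : mulSum T d s :=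
  koszul_surj T d (fun e => h.vanish_ge (by omega) (by push_cast; omega)) s

/-- The global sections span the stalk. -/
def SpanAt (T : ProjCoh.MulData X ι) (d : ℤ) (x : X) : Prop :=
  Submodule.span (X.presheaf.stalk x)
    (Set.range fun σ : Γ(T.F d, ⊤) => (T.F d).presheaf.germ ⊤ x trivial σ) = ⊤

theorem DataReg.spanAt_pred {T : ProjCoh.MulData X ι} {m : ℤ} (h : DataReg T m) {d : ℤ} (hd : m < d) {x : X}
    (hs : SpanAt T d x) : SpanAt T (d - 1) x := by
  obtain ⟨i, hx⟩ := Opens.mem_iSup.1 (show x ∈ iSup T.U by rw [T.cover]; trivial)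
  refine eq_top_iff.2 fun z _ => ?_
  have hz : stalkLin (T.μ i d) x z ∈ Submodule.map (stalkLin (T.μ i d) x)
      (Submodule.span (X.presheaf.stalk x)
        (Set.range fun σ : Γ(T.F (d - 1), ⊤) => (T.F (d - 1)).presheaf.germ ⊤ x trivial σ)) := by
    refine (show (⊤ : Submodule _ ((T.F d).presheaf.stalk x)) ≤ _ from hs.ge.trans (Submodule.span_le.2 ?_)) trivial
    rintro _ ⟨σ, rfl⟩
    obtain ⟨c, rfl⟩ := h.sum_surj hd σ
    show (T.F d).presheaf.germ ⊤ x trivial _ ∈ _
    rw [map_sum]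
    refine sum_mem fun a _ => ?_
    rw [← stalkLin_germ (T.μ a d) (U := ⊤) x trivial, T.ratio i a d x hx]
    exact Submodule.smul_mem _ _ (Submodule.mem_map_of_mem (Submodule.subset_span ⟨_, rfl⟩))
  obtain ⟨w, hw, e⟩ := hz
  exact (T.bij i d x hx).1 e ▸ hw

theorem DataReg.globallyGenerated {T : ProjCoh.MulData X ι} {m : ℤ} (h : DataReg T m)
    (hev : ∃ N : ℕ, ∀ K : ℕ, N ≤ K → ∀ x, SpanAt T (K : ℤ) x) : Curv2.IsGloballyGenerated (T.F m) := by
  obtain ⟨N, hN⟩ := hev
  refine AmpleEmb.isGloballyGenerated_of_span (fun σ => σ) fun x => ?_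
  have key : ∀ j : ℕ, SpanAt T (m + j) x → SpanAt T m x := by
    intro j
    induction j with
    | zero => simp
    | succ j ih =>
      intro hj
      refine ih ?_
      have := h.spanAt_pred (show m < m + ((j + 1 : ℕ) : ℤ) by push_cast; omega) hj
      rwa [show m + ((j + 1 : ℕ) : ℤ) - 1 = m + j by push_cast; ring] at this
  have hk := hN (N + m.toNat) (by omega) x
  refine key (((N + m.toNat : ℕ) : ℤ) - m).toNat ?_
  rwa [show m + ((((N + m.toNat : ℕ) : ℤ) - m).toNat : ℤ) = ((N + m.toNat : ℕ) : ℤ) by omega]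

end Generic

variable (k : Type u) [Field k] {n : ℕ} {X : Scheme.{u}} (i : X ⟶ CohB1.ProjSpace n k)

/-- The twisting data on `X`. -/
def xData (F : X.Modules) : ProjCoh.MulData X (Fin (n + 1)) :=
  ((ProjCoh.twistMulData (CohB1.polyGrading n k) (AmpleEmb.coordForm n k) (AmpleEmb.iSup_stdOpen n k)).pullback i).tensor F

theorem xData_F (F : X.Modules) (d : ℤ) : (xData k i F).F d = Pic13.twistOn k i F d := rfl

theorem spanAt_eventually [IsClosedImmersion i] {F : X.Modules} (hF : Coh.IsCoh F) :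
    ∃ N : ℕ, ∀ K : ℕ, N ≤ K → ∀ x, SpanAt (xData k i F) (K : ℤ) x := by
  obtain ⟨N, hN⟩ := AmpleEmb.eventually_isGloballyGenerated
    (AmpleLib.isAmple_pullback i (AmpleEmb.isAmple_twistOne n k)) hF
  refine ⟨N, fun K hK x => ?_⟩
  exact ProjBundleLib.span_germ_of_isGloballyGenerated
    (AmpleLib.isGloballyGenerated_of_iso (AmpleLib.tIso (Iso.refl F)
      ((AmpleLib.pullPow i _ K).symm ≪≫ (Scheme.Modules.pullback i).mapIso (powTwistIso K))) (hN K hK)) x

/-- `F(a) ⊗ i^*O(b) ≅ F(a+b)`. -/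
def xMulIso (M : X.Modules) {a b c : ℤ} (h : a + b = c) :
    CohB1.tensorMod (Pic13.twistOn k i M a) ((Scheme.Modules.pullback i).obj (Twist.twistProjSpace n k b)) ≅
      Pic13.twistOn k i M c :=
  AmpleLib.assoc M _ _ ≪≫ AmpleLib.tIso (Iso.refl M) ((AmpleLib.pullTensor i _ _).symm ≪≫
    (Scheme.Modules.pullback i).mapIso (ProjTwistLib.mulIso (𝒜 := CohB1.polyGrading n k) h (hasUnit a)))

theorem xEventually_vanish [IsClosedImmersion i] {F : X.Modules} (hF : Coh.IsCoh F) {p : ℕ} (hp : 0 < p) :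
    ∃ d₀ : ℤ, ∀ d, d₀ ≤ d → Subsingleton (Coh.HH X (Pic13.twistOn k i F d) p) := by
  have hgen : Algebra.adjoin k (Set.range fun a => (AmpleEmb.coordForm n k a).1) = ⊤ :=
    MvPolynomial.adjoin_range_X
  exact ProjCoh.exists_vanishing (CohB1.polyGrading n k) (AmpleEmb.coordForm n k) hgen
    (X := X) i F hF p hp

/-- Tensoring with a twist on `X`. -/
abbrev xTens (d : ℤ) : X.Modules ⥤ X.Modules :=
  CurveLib.tensR ((Scheme.Modules.pullback i).obj (Twist.twistProjSpace n k d))

theorem xShortExact {S : ShortComplex X.Modules} (hS : S.ShortExact) (d : ℤ) : (S.map (xTens k i d)).ShortExact :=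
  CurveLib.shortExact_tensR hS fun x =>
    CurveLib.freeAt_one_of_isInvertible (AmpleLib.isInvertible_pullback i (isInvertible_O d)) x

variable {k i} {F G A : X.Modules}

theorem xμ_natural (π : F ⟶ G) (v : Fin (n + 1)) (j : ℤ) :
    (xData k i F).μ v j ≫ (xTens k i j).map π = (xTens k i (j - 1)).map π ≫ (xData k i G).μ v j :=
  ((DCoh.tensorBi (X := X)).map π).naturality
    (((ProjCoh.twistMulData (CohB1.polyGrading n k) (AmpleEmb.coordForm n k) (AmpleEmb.iSup_stdOpen n k)).pullback i).μ v j)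

/-- Surjectivity on twisted sections. -/
abbrev XSurjAt (π : F ⟶ G) (k : Type u) [Field k] (i : X ⟶ CohB1.ProjSpace n k) (j : ℤ) : Prop :=
  Function.Surjective (((xTens k i j).map π).app ⊤)

theorem xSurjAt_succ {m : ℤ} (hm : DataReg (xData k i G) m) (π : F ⟶ G) {j : ℤ}
    (hj : m < j) (h : XSurjAt π k i (j - 1)) : XSurjAt π k i j := by
  intro s
  obtain ⟨c, rfl⟩ := hm.sum_surj hj s
  choose b hb using fun v => h (c v)
  refine ⟨∑ v, ((xData k i F).μ v j).app ⊤ (b v), ?_⟩
  rw [map_sum]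
  refine Finset.sum_congr rfl fun v _ => ?_
  refine (congr($(xμ_natural π v j).app ⊤ (b v))).trans ?_
  exact congrArg _ (hb v)

variable [X.Over (Spec (CommRingCat.of k))] [IsProper (X ↘ Spec (CommRingCat.of k))]

/-- `h¹` of a twist on `X`. -/
abbrev xh1 (k : Type u) [Field k] [X.Over (Spec (CommRingCat.of k))] (i : X ⟶ CohB1.ProjSpace n k) (M : X.Modules)
    (j : ℤ) : ℕ := Module.finrank k (Coh.HH X (Pic13.twistOn k i M j) 1)

theorem xIsCoh_twist (hA : Coh.IsCoh A) (j : ℤ) : Coh.IsCoh (Pic13.twistOn k i A j) :=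
  haveI := EulerIneqLib.isNoetherian_proper (X := X) k
  isCoh_tensor_inv hA (AmpleLib.isInvertible_pullback i (isInvertible_O j))

theorem hh_finrank_iso {M N : X.Modules} (e : M ≅ N) (q : ℕ) :
    Module.finrank k (Coh.HH X M q) = Module.finrank k (Coh.HH X N q) :=
  (LinearEquiv.ofLinearMap (CurveLib.hMap (k := k) e.hom q) (CurveLib.hMap e.inv q)
      (LinearMap.ext fun x => by
        show Sheaf.H.map _ q (Sheaf.H.map _ q x) = x
        rw [← Sheaf.H.map_comp_apply, ← Functor.map_comp, e.inv_hom_id, CategoryTheory.Functor.map_id,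
          Sheaf.H.map_id_apply])
      (LinearMap.ext fun x => by
        show Sheaf.H.map _ q (Sheaf.H.map _ q x) = x
        rw [← Sheaf.H.map_comp_apply, ← Functor.map_comp, e.hom_inv_id, CategoryTheory.Functor.map_id,
          Sheaf.H.map_id_apply])).finrank_eq

variable {ι : A ⟶ F} {π : F ⟶ G} {w : ι ≫ π = 0}

theorem xh1_facts (hF : Coh.IsCoh F) (hA : Coh.IsCoh A) (e : A ≅ Pic13.twistOn k i F (-1))
    (hS : (ShortComplex.mk ι π w).ShortExact) {m : ℤ} (hm : DataReg (xData k i G) m) {j : ℤ} (hj : m - 1 ≤ j) :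
    xh1 k i F j ≤ xh1 k i F (j - 1) ∧ (xh1 k i F j = xh1 k i F (j - 1) → XSurjAt π k i j) ∧
      (XSurjAt π k i j → xh1 k i F j = xh1 k i F (j - 1)) := by
  have hT := xShortExact k i hS j
  let S' := (ShortComplex.mk ι π w).map (xTens k i j)
  let f := CurveLib.hMap (k := k) S'.f 1
  haveI hz : Subsingleton (Coh.HH X S'.X₃ 1) := hm.vanish_ge le_rfl (by push_cast; omega)
  have hsurj : Function.Surjective f := by
    rw [← LinearMap.range_eq_top, CurveLib.range_hMap_f hT 1]
    exact eq_top_iff.2 fun z _ => Subsingleton.elim _ _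
  haveI := EulerIneqLib.finite_HH (k := k) (X := X) (M := S'.X₁) (xIsCoh_twist hA j) 1
  haveI := EulerIneqLib.finite_HH (k := k) (X := X) (M := S'.X₂) (xIsCoh_twist hF j) 1
  have hdim : Module.finrank k (Coh.HH X S'.X₁ 1) = xh1 k i F (j - 1) :=
    hh_finrank_iso (AmpleLib.tIso e (Iso.refl _) ≪≫ xMulIso k i F (show -1 + j = j - 1 by ring)) 1
  have hle' : xh1 k i F j ≤ xh1 k i F (j - 1) := hdim ▸ LinearMap.finrank_le_finrank_of_surjective hsurj
  have hinj : Function.Injective f ↔ XSurjAt π k i j := by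
    refine Iff.trans ?_ (surjective_hMap_zero (k := k) S'.g)
    rw [← LinearMap.ker_eq_bot, ← CurveLib.range_hδ hT 0, LinearMap.range_eq_bot, ← LinearMap.ker_eq_top,
      ← CurveLib.range_hMap_g hT 0, LinearMap.range_eq_top]
  refine ⟨hle', fun he => hinj.1 ?_, fun hs => ?_⟩
  · exact (LinearMap.injective_iff_surjective_of_finrank_eq_finrank
      (show Module.finrank k (Coh.HH X S'.X₁ 1) = Module.finrank k (Coh.HH X S'.X₂ 1) from hdim.trans he.symm)
        (f := f)).2 hsurj
  · exact ((LinearEquiv.ofBijective f ⟨hinj.2 hs, hsurj⟩).finrank_eq.symm.trans hdim)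

theorem xDrop_main [IsClosedImmersion i] (hF : Coh.IsCoh F) (hA : Coh.IsCoh A) (e : A ≅ Pic13.twistOn k i F (-1))
    (hS : (ShortComplex.mk ι π w).ShortExact) {m : ℤ} (hm : DataReg (xData k i G) m) :
    (∀ (q : ℕ) (j : ℤ), 2 ≤ q → m - q ≤ j → Subsingleton (Coh.HH X (Pic13.twistOn k i F j) q)) ∧
      (∀ j : ℤ, m - 1 ≤ j → xh1 k i F j ≤ xh1 k i F (j - 1)) ∧
      (∀ j : ℤ, m - 1 + (xh1 k i F (m - 1) : ℤ) ≤ j → Subsingleton (Coh.HH X (Pic13.twistOn k i F j) 1)) ∧
      Pic13.IsMRegular k i F (m + xh1 k i F (m - 1)) := by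
  have hi : ∀ (q : ℕ) (j : ℤ), 2 ≤ q → m - q ≤ j → Subsingleton (Coh.HH X (Pic13.twistOn k i F j) q) := by
    intro p j hp hj
    obtain ⟨d₀, hd⟩ := xEventually_vanish k i hF (p := p) (by omega)
    obtain ⟨q, rfl⟩ : ∃ q, p = q + 1 := ⟨p - 1, by omega⟩
    have key : ∀ (N : ℕ) (j : ℤ), m - ((q + 1 : ℕ) : ℤ) ≤ j → d₀ ≤ j + N →
        Subsingleton (Coh.HH X (Pic13.twistOn k i F j) (q + 1)) := by
      intro N
      induction N with
      | zero => exact fun j _ h => hd j (by simpa using h)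
      | succ N ih =>
        intro j hj h
        have h2 := ih (j + 1) (by omega) (by push_cast at h; omega)
        have h3 : Subsingleton (Coh.HH X (Pic13.twistOn k i G (j + 1)) q) :=
          hm.vanish_ge (by omega) (by push_cast at hj; omega)
        exact @ProjCoh.subsingleton_of_iso _ _ _
          (AmpleLib.tIso e (Iso.refl _) ≪≫ xMulIso k i F (show -1 + (j + 1) = j by ring)) (q + 1)
          (subsingleton_left (xShortExact k i hS (j + 1)) q h2 h3)
    exact key (d₀ - j).toNat j hj (by omega)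
  have hii : ∀ j : ℤ, m - 1 ≤ j → xh1 k i F j ≤ xh1 k i F (j - 1) := fun j hj => (xh1_facts hF hA e hS hm hj).1
  obtain ⟨d₁, hd₁⟩ := xEventually_vanish k i hF (p := 1) one_pos
  have hiii : ∀ N : ℕ, xh1 k i F (m - 1 + N) = 0 ∨ xh1 k i F (m - 1 + N) + N ≤ xh1 k i F (m - 1) := by
    intro N
    induction N with
    | zero => exact Or.inr (by simp)
    | succ N ih =>
      have hle : xh1 k i F (m - 1 + (N + 1 : ℕ)) ≤ xh1 k i F (m - 1 + N) := by
        have := hii (m - 1 + (N + 1 : ℕ)) (by omega)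
        rwa [show m - 1 + ((N + 1 : ℕ) : ℤ) - 1 = m - 1 + N by push_cast; ring] at this
      rcases eq_or_ne (xh1 k i F (m - 1 + (N + 1 : ℕ))) 0 with h0 | h0
      · exact Or.inl h0
      refine Or.inr ?_
      rcases ih with ih | ih
      · omega
      rcases hle.lt_or_eq with hlt | heq
      · omega
      exfalso
      have hs : XSurjAt π k i (m - 1 + (N + 1 : ℕ)) := (xh1_facts hF hA e hS hm (by omega)).2.1 (by
        rwa [show m - 1 + ((N + 1 : ℕ) : ℤ) - 1 = m - 1 + N by push_cast; ring])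
      have hconst : ∀ l : ℕ, XSurjAt π k i (m - 1 + (N + 1 : ℕ) + l) ∧
          xh1 k i F (m - 1 + (N + 1 : ℕ) + l) = xh1 k i F (m - 1 + (N + 1 : ℕ)) := by
        intro l
        induction l with
        | zero => simpa using hs
        | succ l ihl =>
          have e1 : m - 1 + ((N + 1 : ℕ) : ℤ) + ((l + 1 : ℕ) : ℤ) - 1 = m - 1 + (N + 1 : ℕ) + l := by push_cast; ring
          have hs' : XSurjAt π k i (m - 1 + (N + 1 : ℕ) + (l + 1 : ℕ)) :=
            xSurjAt_succ hm π (by push_cast; omega) (by rw [e1]; exact ihl.1)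
          refine ⟨hs', ?_⟩
          rw [(xh1_facts hF hA e hS hm (by omega)).2.2 hs', e1]
          exact ihl.2
      have hz := (hconst (d₁ - (m - 1 + (N + 1 : ℕ))).toNat).2
      haveI := hd₁ (m - 1 + (N + 1 : ℕ) + (d₁ - (m - 1 + (N + 1 : ℕ))).toNat) (by omega)
      rw [xh1, Module.finrank_zero_of_subsingleton] at hz
      exact h0 hz.symm
  have hiii' : ∀ j : ℤ, m - 1 + (xh1 k i F (m - 1) : ℤ) ≤ j →
      Subsingleton (Coh.HH X (Pic13.twistOn k i F j) 1) := by
    intro j hj
    obtain ⟨N, rfl⟩ : ∃ N : ℕ, j = m - 1 + N := ⟨(j - (m - 1)).toNat, by omega⟩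
    haveI := EulerIneqLib.finite_HH (k := k) (X := X) (xIsCoh_twist hF (i := i) (m - 1 + N)) 1
    refine Module.finrank_zero_iff.1 (show xh1 k i F (m - 1 + N) = 0 from ?_)
    rcases hiii N with h | h <;> omega
  refine ⟨hi, hii, hiii', fun q h1q => ?_⟩
  rcases Nat.lt_or_ge q 2 with h | h
  · obtain rfl : q = 1 := by omega
    exact hiii' _ (by push_cast; omega)
  · exact hi q _ h (by omega)

end Groth.Agent.CMRegLib
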