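import Groth.Agent.CMRegLib.Seq
import Groth.Agent.RpushLib.Finite
import Groth.Agent.EulerIneqLib.Basic
import Groth.Agent.DevLib.Power
import Groth.Agent.DCohLib.Restrict

/-!
# Regularity and one-step linear resolutions
-/

set_option autoImplicit false
set_option backward.isDefEq.respectTransparency false

universe u v

open CategoryTheory CategoryTheory.Limits AlgebraicGeometry TopologicalSpace Opposite
open Groth.Agent.DCohLib Groth.Agent.PullbackMod

noncomputable section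

namespace Groth.Agent.CMRegLib

section Sigma

variable {C : Type*} [Category.{v} C] [Preadditive C] [HasZeroObject C] [HasFiniteBiproducts C] [HasBinaryBiproducts C]

/-- Splitting off the first summand. -/
def biproductSuccIso {b : ℕ} (f : Fin (b + 1) → C) : ⨁ f ≅ f 0 ⊞ ⨁ (fun j : Fin b => f j.succ) where
  hom := biprod.lift (biproduct.π f 0) (biproduct.lift fun j => biproduct.π f j.succ)
  inv := biprod.desc (biproduct.ι f 0) (biproduct.desc fun j => biproduct.ι f j.succ)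
  hom_inv_id := by
    rw [biprod.lift_desc, biproduct.lift_desc, ← biproduct.total, Fin.sum_univ_succ]
  inv_hom_id := by
    refine biprod.hom_ext' _ _ (biprod.hom_ext _ _ ?_ (biproduct.hom_ext _ _ fun j => ?_))
      (biproduct.hom_ext' _ _ fun i => biprod.hom_ext _ _ ?_ (biproduct.hom_ext _ _ fun j => ?_))
    · simp
    · simp [biproduct.ι_π_ne _ (Fin.succ_ne_zero j).symm]
    · simp [biproduct.ι_π_ne _ (Fin.succ_ne_zero i)]
    · simp [biproduct.ι_π, Fin.succ_inj]

theorem sigma_induction (P : C → Prop) (h0 : ∀ Z, IsZero Z → P Z) (hbi : ∀ A B, P A → P B → P (A ⊞ B))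
    (hiso : ∀ {A B}, (A ≅ B) → P A → P B) {b : ℕ} (f : Fin b → C) (hf : ∀ j, P (f j)) : P (∐ f) := by
  refine hiso (biproduct.isoCoproduct f) ?_
  induction b with
  | zero =>
    exact h0 _ ((IsZero.iff_id_eq_zero _).2 (biproduct.hom_ext _ _ fun j => j.elim0))
  | succ b ih => exact hiso (biproductSuccIso f).symm (hbi _ _ (hf 0) (ih _ fun j => hf j.succ))

end Sigma

variable {k : Type u} [Field k] {n : ℕ}

local notation "PS" => CohB1.ProjSpace n k
local notation "O(" d ")" => Twist.twistProjSpace n k d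

theorem HT.biprod {A B : (PS).Modules} {d : ℤ} {i : ℕ} (hA : HT A d i) (hB : HT B d i) : HT (A ⊞ B) d i :=
  HT.mid (S := ShortComplex.mk (biprod.inl : A ⟶ A ⊞ B) biprod.snd biprod.inl_snd)
    (ShortComplex.Splitting.ofHasBinaryBiproduct A B).shortExact hA hB

theorem HT.sigma {b : ℕ} (f : Fin b → (PS).Modules) {d : ℤ} {i : ℕ} (h : ∀ j, HT (f j) d i) : HT (∐ f) d i :=
  haveI : HasFiniteBiproducts (PS).Modules := HasFiniteBiproducts.of_hasFiniteProducts
  sigma_induction (fun M => HT M d i)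
    (fun Z hZ => subsingleton_zero (X := PS) ((CurveLib.tensR (O(d))).map_isZero hZ) i)
    (fun _ _ hA hB => hA.biprod hB) (fun e h => h.iso e) f h

theorem isCoh_sigma_fin {X : Scheme.{u}} [IsLocallyNoetherian X] {b : ℕ} (f : Fin b → X.Modules)
    (h : ∀ j, Coh.IsCoh (f j)) : Coh.IsCoh (∐ f) :=
  haveI : HasFiniteBiproducts X.Modules := HasFiniteBiproducts.of_hasFiniteProducts
  sigma_induction Coh.IsCoh
    (fun Z hZ => ProjCoh.isCoh_of_iso ((isZero_cokernel_of_epi (𝟙 (Coh.structureModule X))).iso hZ)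
      (QCohLib.isCoh_kernel_cokernel (𝟙 (Coh.structureModule X))
        (DevLib.isCoh_structureModule X) (DevLib.isCoh_structureModule X)).2)
    (fun _ _ hA hB => DevLib.isCoh_biprod hA hB) (fun e h => ProjCoh.isCoh_of_iso e h) f h

/-- Cohomology of a twist of a twist of the structure sheaf. -/
theorem HT_twist (c d : ℤ) {i : ℕ} (hi : 1 ≤ i) (h : -((n : ℤ) + 1) < c + d ∨ i ≠ n) : HT (O(c)) d i := by
  obtain ⟨m, rfl⟩ : ∃ m, i = m + 1 := ⟨i - 1, by omega⟩
  exact @ProjCoh.subsingleton_of_iso _ _ _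
    (ProjTwistLib.mulIso (𝒜 := CohB1.polyGrading n k) (rfl : c + d = c + d) (hasUnit c)).symm (m + 1)
    (ProjTwist.subsingleton_HH_pos n k (c + d) m h)

theorem regular_of_resolution {F : (PS).Modules} (hF : Coh.IsCoh F) (m : ℤ) {b : ℕ}
    (φ : (∐ fun _ : Fin b => O(-m)) ⟶ F) [Epi φ] (h : Curv2.IsMRegular k n (kernel φ) (m + 1)) :
    Curv2.IsMRegular k n F m := by
  haveI := isNoetherian_projSpace (k := k) (n := n)
  intro i hi hin
  have hS : Coh.IsCoh (∐ fun _ : Fin b => O(-m)) :=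
    isCoh_sigma_fin _ fun _ => CurveLib.isCoh_of_isInvertible (isInvertible_O _)
  refine HT.right (shortExact_ker φ) (HT.sigma _ fun _ => HT_twist _ _ hi (Or.inl (by omega))) ?_
  exact vanish_ge (QCohLib.isCoh_kernel_cokernel φ hS hF).1 h (by omega) (by push_cast; omega)

/-- The global sections of a coherent module are spanned by finitely many over the constants. -/
theorem exists_span_sections {G : (PS).Modules} (hG : Coh.IsCoh G) :
    ∃ (b : ℕ) (s : Fin b → Γ(G, ⊤)), ∀ σ : Γ(G, ⊤), ∃ r : Fin b → Γ(PS, ⊤), σ = ∑ j, r j • s j := by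
  haveI : IsProper (PS ↘ Spec (CommRingCat.of k)) := CompleteCurve.isProper_toSpec n k
  haveI := EulerIneqLib.finite_HH (k := k) (X := PS) hG 0
  obtain ⟨b, v, hv⟩ := Module.Finite.exists_fin (R := k) (M := Coh.HH PS G 0)
  refine ⟨b, fun j => (RpushLib.h0Γ G).symm (v j), fun σ => ?_⟩
  obtain ⟨c, hc⟩ := (Submodule.mem_span_range_iff_exists_fun k).1
    (show RpushLib.h0Γ G σ ∈ Submodule.span k (Set.range v) by rw [hv]; trivial)
  refine ⟨fun j => Coh.toGlobal (PS ↘ Spec (CommRingCat.of k)) (c j), (RpushLib.h0Γ G).injective ?_⟩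
  rw [map_sum, ← hc]
  refine Finset.sum_congr rfl fun j _ => ?_
  rw [RpushLib.h0Γ_smul, AddEquiv.apply_symm_apply]
  rfl

theorem surjective_desc_secHom {X : Scheme.{u}} {G : X.Modules} {b : ℕ} (s : Fin b → Γ(G, ⊤))
    (hs : ∀ σ : Γ(G, ⊤), ∃ r : Fin b → Γ(X, ⊤), σ = ∑ j, r j • s j) :
    Function.Surjective ((Sigma.desc fun j => DCohLib.secHom G (s j)).app ⊤) := by
  intro σ
  obtain ⟨r, rfl⟩ := hs σ
  refine ⟨∑ j, (Sigma.ι (fun _ : Fin b => Coh.structureModule X) j).app ⊤ (r j : Γ(X, ⊤)), ?_⟩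
  rw [map_sum]
  refine Finset.sum_congr rfl fun j _ => ?_
  show ((Sigma.ι (fun _ : Fin b => Coh.structureModule X) j ≫ Sigma.desc fun j => DCohLib.secHom G (s j))).app ⊤ _ = _
  rw [Sigma.ι_desc]
  have h := Scheme.Modules.Hom.app_smul (DCohLib.secHom G (s j)) (r j) (show Γ(Coh.structureModule X, ⊤) from (1 : Γ(X, ⊤)))
  refine (congrArg ((DCohLib.secHom G (s j)).app ⊤) (show (r j : Γ(X, ⊤)) = r j * 1 from (mul_one _).symm)).trans
    (h.trans ?_)
  rw [DCohLib.secHom_app_one]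
  exact congrArg (r j • ·) (congr($(G.presheaf.map_id (op ⊤)) (s j)))

theorem epi_of_surjective_sections {X : Scheme.{u}} {A G : X.Modules} (q : A ⟶ G)
    (hqs : Function.Surjective (q.app ⊤)) (hG : Curv2.IsGloballyGenerated G) : Epi q := by
  refine (epi_iff_stalk q).2 fun x => ?_
  rw [← LinearMap.range_eq_top, eq_top_iff]
  refine (ProjBundleLib.span_germ_of_isGloballyGenerated hG x).ge.trans (Submodule.span_le.2 ?_)
  rintro _ ⟨σ, rfl⟩
  obtain ⟨w, rfl⟩ := hqs σ
  exact ⟨_, stalkLin_germ q (U := ⊤) x trivial w⟩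

theorem subsingleton_H1_kernel {X : Scheme.{u}} {A G : X.Modules} (q : A ⟶ G) [Epi q]
    (hqs : Function.Surjective (q.app ⊤)) (h : Subsingleton (Coh.HH X A 1)) :
    Subsingleton (Coh.HH X (kernel q) 1) := by
  refine CohBase.subsingleton_HH _ _ ?_
  haveI : Subsingleton (CohBase.HU (⊤ : X.Opens)
      ((ShortComplex.mk (kernel.ι q) q (kernel.condition q)).map (QCohLib.toAbF X)).X₂ 1) :=
    SerreAff.subsingleton_HU_top h
  exact CohBase.subsingleton_one_of_surjective (QCohLib.toAb_shortExact (shortExact_ker q)) ⊤ hqs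

theorem exists_twisted {X : Scheme.{u}} {E : X.Modules} (hE : PicF.IsInvertible E) {A G F B : X.Modules}
    (q : A ⟶ G) [Epi q] (θ : CohB1.tensorMod G E ≅ F) (ψ : B ≅ CohB1.tensorMod A E) :
    ∃ φ : B ⟶ F, Epi φ ∧ Nonempty (CohB1.tensorMod (kernel q) E ≅ kernel φ) := by
  let T := CurveLib.tensR E
  have hT : (ShortComplex.mk (T.map (kernel.ι q)) (T.map q)
      (by rw [← Functor.map_comp, kernel.condition, Functor.map_zero])).ShortExact :=
    CurveLib.shortExact_tensR (shortExact_ker q) fun x => CurveLib.freeAt_one_of_isInvertible hE x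
  haveI : Epi (T.map q) := hT.epi_g
  exact ⟨ψ.hom ≫ T.map q ≫ θ.hom, inferInstance,
    ⟨IsLimit.conePointUniqueUpToIso hT.fIsKernel (limit.isLimit _) ≪≫ (kernelCompMono (T.map q) θ.hom).symm ≪≫
      (kernelIsIsoComp ψ.hom (T.map q ≫ θ.hom)).symm⟩⟩

/-- `∐ E ≅ (∐ O) ⊗ E`. -/
def sigmaUnitIso {X : Scheme.{u}} (E : X.Modules) (b : ℕ) :
    (∐ fun _ : Fin b => E) ≅ CohB1.tensorMod (∐ fun _ : Fin b => Coh.structureModule X) E :=
  Sigma.mapIso (fun _ => (AmpleLib.unitL E).symm) ≪≫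
    (PreservesCoproduct.iso (CurveLib.tensR E) fun _ : Fin b => Coh.structureModule X).symm

theorem HT_structure (d : ℤ) {i : ℕ} (hi : 1 ≤ i) (h : -((n : ℤ) + 1) < d) :
    HT (Coh.structureModule PS) d i :=
  HT.iso (@asIso _ _ _ _ (ProjCoh.unitToTwist (CohB1.polyGrading n k)) ProjCoh.isIso_unitToTwist).symm
    (HT_twist 0 d hi (Or.inl (by omega)))

theorem exists_resolution {F : (PS).Modules} (hF : Coh.IsCoh F) (m : ℤ) (h : Curv2.IsMRegular k n F m) :
    ∃ (b : ℕ) (φ : (∐ fun _ : Fin b => O(-m)) ⟶ F),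
      Epi φ ∧ Curv2.IsMRegular k n (kernel φ) (m + 1) := by
  obtain ⟨b, s, hs⟩ := exists_span_sections (isCoh_twistBy hF m)
  have hqs := surjective_desc_secHom s hs
  haveI := epi_of_surjective_sections _ hqs (globallyGenerated hF h)
  generalize (Sigma.desc fun j => DCohLib.secHom (CohB1.tensorMod F (O(m))) (s j)) = q at *
  let θ : CohB1.tensorMod (CohB1.tensorMod F (O(m))) (O(-m)) ≅ F :=
    @asIso _ _ _ _ (mulMap F (add_neg_cancel m)) (isIso_mulMap F _) ≪≫ zeroTwistIso F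
  obtain ⟨φ, hφ, ⟨e⟩⟩ := exists_twisted (isInvertible_O (k := k) (n := n) (-m)) q θ (sigmaUnitIso (O(-m)) b)
  refine ⟨b, φ, hφ, fun i hi hin => ?_⟩
  refine HT.iso e (HT.twist (show -m + (m + 1 - (i : ℤ)) = 1 - (i : ℤ) by ring) ?_)
  obtain ⟨p, rfl⟩ : ∃ p, i = p + 1 := ⟨i - 1, by omega⟩
  have h2 : ∀ d : ℤ, d = -(p : ℤ) → HT (∐ fun _ : Fin b => Coh.structureModule PS) d (p + 1) := fun d hd =>
    HT.sigma _ fun _ => HT_structure d hi (by omega)
  rcases p with _ | p
  · have h0 := subsingleton_H1_kernel q hqs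
      (@ProjCoh.subsingleton_of_iso _ _ _ (zeroTwistIso (∐ fun _ : Fin b => Coh.structureModule PS)) 1 (h2 0 (by simp)))
    have : HT (kernel q) 0 1 := @ProjCoh.subsingleton_of_iso _ _ _ (zeroTwistIso (kernel q)).symm 1 h0
    simpa using this
  · refine HT.left (shortExact_ker q) (h2 _ (by push_cast; ring))
      (HT.twist (rfl : m + (1 - ((p + 1 + 1 : ℕ) : ℤ)) = _) ?_)
    exact vanish_ge hF h (Nat.succ_pos p) (by push_cast; omega)

end Groth.Agent.CMRegLib
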