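import Groth.Agent.CMRegLib.Bound
import Groth.Agent.CMRegLib.Res
import Groth.Agent.DegDevLib.Det
import Groth.Agent.GenSeesawLib.TwistBC
import Groth.Agent.DCohLib.ProjPerf
import Groth.Agent.S0034
import Groth.Agent.S4466
import Groth.Agent.PullbackMod.Props
import Mathlib.FieldTheory.IsAlgClosed.AlgebraicClosure

/-!
# Mumford's bound for subsheaves of free modules
-/

set_option autoImplicit false
set_option linter.style.haveILetI false
set_option backward.isDefEq.respectTransparency false
set_option maxHeartbeats 400000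

universe u

open CategoryTheory CategoryTheory.Limits AlgebraicGeometry TopologicalSpace Opposite
open Groth.Agent.DCohLib Groth.Agent.PullbackMod

noncomputable section

namespace Groth.Agent.CMRegLib

variable {k : Type u} [Field k] {n : ℕ}

local notation "PS" => CohB1.ProjSpace n k
local notation "O(" d ")" => Twist.twistProjSpace n k d

theorem isCoh_freeMod (p : ℕ) : Coh.IsCoh (FlatMod.freeMod PS p) := by
  haveI := isNoetherian_projSpace (k := k) (n := n)
  exact isCoh_sigma_fin _ fun _ => DevLib.isCoh_structureModule _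

theorem HT_freeMod (p : ℕ) (d : ℤ) {i : ℕ} (hi : 1 ≤ i) (h : -((n : ℤ) + 1) < d) :
    HT (FlatMod.freeMod PS p) d i :=
  HT.sigma _ fun _ => HT_structure d hi h

theorem regular_freeMod (p : ℕ) : Curv2.IsMRegular k n (FlatMod.freeMod PS p) 0 := fun i hi hin =>
  HT_freeMod p _ hi (by omega)

theorem euler_twist (hn : 0 < n) (d : ℤ) : Curv2.euler k PS (O(d)) = Ring.choose (d + n) n := by
  haveI : IsProper (PS ↘ Spec (CommRingCat.of k)) := CompleteCurve.isProper_toSpec n k
  haveI := isNoetherian_projSpace (k := k) (n := n)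
  rw [CurveLib.euler_eq_sum (K := k) _ (n + 1) fun q hq => ?_]
  · exact S4466.result k n hn d
  · exact @ProjCoh.subsingleton_of_iso _ _ _ (CurveLib.tmodUnit (O(d))) q
      (vanish_high (DevLib.isCoh_structureModule _) d hq)

theorem euler_structure_tw (hn : 0 < n) (d : ℤ) :
    Curv2.euler k PS (CohB1.tensorMod (Coh.structureModule PS) (O(d))) = Ring.choose (d + n) n := by
  haveI : IsProper (PS ↘ Spec (CommRingCat.of k)) := CompleteCurve.isProper_toSpec n k
  exact (CurveLib.euler_iso (CurveLib.tmodUnit (O(d)))).trans (euler_twist hn d)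

theorem euler_freeMod_tw (hn : 0 < n) (d : ℤ) : ∀ p : ℕ,
    Curv2.euler k PS (CohB1.tensorMod (FlatMod.freeMod PS p) (O(d))) = p * Ring.choose (d + n) n
  | 0 => by
    haveI : IsProper (PS ↘ Spec (CommRingCat.of k)) := CompleteCurve.isProper_toSpec n k
    rw [DegDevLib.euler_isZero k (N := CohB1.tensorMod (FlatMod.freeMod PS 0) (O(d)))
      ((CurveLib.tensR (O(d))).map_isZero ((IsZero.iff_id_eq_zero _).2 (Sigma.hom_ext _ _ fun i => i.elim0)))]
    simp
  | p + 1 => by
    classical
    let S : ShortComplex (PS).Modules := ShortComplex.mk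
      (Sigma.ι (fun _ : Fin (p + 1) => Coh.structureModule PS) (Fin.last p))
      (Sigma.desc fun i : Fin (p + 1) => Fin.lastCases 0 (fun j => Sigma.ι (fun _ : Fin p => Coh.structureModule PS) j) i)
      (by simp)
    let sp : S.Splitting :=
      { r := Sigma.desc fun i => if i = Fin.last p then 𝟙 _ else 0
        s := Sigma.desc fun j => Sigma.ι (fun _ : Fin (p + 1) => Coh.structureModule PS) j.castSucc
        f_r := by simp [S]
        s_g := Sigma.hom_ext _ _ fun j => by simp [S]
        id := Sigma.hom_ext _ _ fun i => by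
          induction i using Fin.lastCases with
          | last => simp [S]
          | cast j => simp [S, (Fin.castSucc_lt_last j).ne] }
    haveI := isNoetherian_projSpace (k := k) (n := n)
    have h := euler_tw S.f S.g S.zero sp.shortExact (DevLib.isCoh_structureModule PS)
      (isCoh_freeMod (p + 1)) (isCoh_freeMod p) d
    refine (show _ = _ from h).trans ?_
    rw [euler_structure_tw hn d]
    refine (congrArg (_ + ·) (euler_freeMod_tw hn d p)).trans ?_
    push_cast
    ring

theorem finrank_H0_freeMod (hn : 0 < n) (p t : ℕ) :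
    Module.finrank k (Coh.HH PS (CohB1.tensorMod (FlatMod.freeMod PS p) (O((t : ℤ)))) 0) = p * (t + n).choose n := by
  haveI : IsProper (PS ↘ Spec (CommRingCat.of k)) := CompleteCurve.isProper_toSpec n k
  have h := euler_freeMod_tw (k := k) hn (t : ℤ) p
  rw [CurveLib.euler_eq_sum (K := k) _ 1 fun i hi => HT_freeMod p (t : ℤ) hi (by omega), Finset.sum_range_one,
    pow_zero, one_mul, ← Nat.cast_add, Ring.choose_natCast] at h
  exact_mod_cast h

theorem regular_of_sub_free_infinite [Infinite k] (hn : 0 < n) {p : ℕ} {F : (PS).Modules}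
    (ι : F ⟶ FlatMod.freeMod PS p) [Mono ι] (hF : Coh.IsCoh F) (f : ℤ → ℤ)
    (hf : ∀ r : ℤ, Curv2.euler k PS (CohB1.tensorMod F (O(r))) = f r) :
    Curv2.IsMRegular k n F (mumB n p (n + 1) f) :=
  regular_of_sub p (n + 1) f F _ ι hF (isCoh_freeMod p) (regular_freeMod p)
    (fun t => (finrank_H0_freeMod hn p t).le) (by omega) hf

variable (k n) (K : Type u) [Field K] [Algebra k K]

theorem nonempty_pullback_twist (d : ℤ) :
    Nonempty ((Scheme.Modules.pullback (GenSeesawLib.bcMap n k K)).obj (O(d)) ≅ Twist.twistProjSpace n K d) := by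
  let ψ : Multiplicative ℤ →* PicLib.Pic (CohB1.ProjSpace n K) :=
    (PicLib.pull (GenSeesawLib.bcMap n k K)).comp (MonoidHom.mk'
      (fun d => PicLib.cls (PicProjLib.isInvertible_twist (n := n) (R := k) d.toAdd))
      fun _ _ => (PicProjLib.cls_twist_mul _ _).symm)
  let φ : Multiplicative ℤ →* PicLib.Pic (CohB1.ProjSpace n K) :=
    MonoidHom.mk' (fun d => PicLib.cls (PicProjLib.isInvertible_twist (n := n) (R := K) d.toAdd))
      fun _ _ => (PicProjLib.cls_twist_mul _ _).symm
  have hψ : ψ = φ := by
    refine MonoidHom.ext_mint ?_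
    refine (PicLib.pull_cls _ (PicProjLib.isInvertible_twist _)).trans ((PicLib.cls_eq_cls _ _).2 ?_)
    exact (GenSeesawLib.nonempty_iso_pullback_twistOne n k K).map Iso.symm
  exact (PicLib.cls_eq_cls _ _).1
    ((PicLib.pull_cls _ (PicProjLib.isInvertible_twist d)).symm.trans (DFunLike.congr_fun hψ (Multiplicative.ofAdd d)))

theorem flat_bcMap : Flat (GenSeesawLib.bcMap n k K) := by
  haveI : Flat (Spec.map (CommRingCat.ofHom (algebraMap k K))) :=
    HasRingHomProperty.Spec_iff.mpr ((RingHom.flat_algebraMap_iff).2 inferInstance)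
  exact MorphismProperty.of_isPullback (GenSeesawLib.isPullback_bcMap n k K).flip inferInstance

variable {k n}

theorem nonempty_tensor_pullback (F : (PS).Modules) (d : ℤ) :
    Nonempty ((Scheme.Modules.pullback (GenSeesawLib.bcMap n k K)).obj (CohB1.tensorMod F (O(d))) ≅
      CohB1.tensorMod ((Scheme.Modules.pullback (GenSeesawLib.bcMap n k K)).obj F) (Twist.twistProjSpace n K d)) := by
  obtain ⟨e⟩ := nonempty_pullback_twist k n K d
  exact ⟨AmpleLib.pullTensor _ F _ ≪≫ AmpleLib.tIso (Iso.refl _) e⟩

theorem nonempty_hh_bcMap {M : (PS).Modules} (hM : Coh.IsQCoh M) (i : ℕ) :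
    Nonempty (TensorProduct k K (Coh.HH PS M i) ≃ₗ[K]
      Coh.HH (CohB1.ProjSpace n K) ((Scheme.Modules.pullback (GenSeesawLib.bcMap n k K)).obj M) i) := by
  haveI := isNoetherian_projSpace (k := k) (n := n)
  exact S0034.result k K PS (CohB1.ProjSpace n K) (GenSeesawLib.bcMap n k K) (GenSeesawLib.isPullback_bcMap n k K) M i

theorem euler_bcMap {F : (PS).Modules} (hF : Coh.IsCoh F) (r : ℤ) :
    Curv2.euler K (CohB1.ProjSpace n K)
        (CohB1.tensorMod ((Scheme.Modules.pullback (GenSeesawLib.bcMap n k K)).obj F) (Twist.twistProjSpace n K r)) =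
      Curv2.euler k PS (CohB1.tensorMod F (O(r))) := by
  haveI : IsProper (CohB1.ProjSpace n K ↘ Spec (CommRingCat.of K)) := CompleteCurve.isProper_toSpec n K
  obtain ⟨e⟩ := nonempty_tensor_pullback K F r
  rw [← CurveLib.euler_iso (K := K) e]
  refine finsum_congr fun i => ?_
  obtain ⟨e'⟩ := nonempty_hh_bcMap K (isCoh_twistBy hF r).1 i
  rw [← e'.finrank_eq, Module.finrank_baseChange]

/-- Mumford's bound: a coherent subsheaf of a free module is regular to an order depending only on its Euler
characteristics. -/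
theorem regular_of_sub_free {p : ℕ} {F : (PS).Modules} (ι : F ⟶ FlatMod.freeMod PS p) [Mono ι] (hF : Coh.IsCoh F)
    (f : ℤ → ℤ) (hf : ∀ r : ℤ, Curv2.euler k PS (CohB1.tensorMod F (O(r))) = f r) :
    Curv2.IsMRegular k n F (mumB n p (n + 1) f) := by
  rcases Nat.eq_zero_or_pos n with hn | hn
  · intro i hi hin; omega
  let K := AlgebraicClosure k
  let g := GenSeesawLib.bcMap n k K
  haveI := flat_bcMap k n K
  haveI : Mono ((Scheme.Modules.pullback g).map ι ≫ (DCohLib.pullFreeIso g p).hom) := by
    haveI : Mono ((Scheme.Modules.pullback g).map ι) := (mono_iff_stalk _).2 fun x => by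
      letI := (g.stalkMap x).hom.toAlgebra
      haveI : Module.Flat ((CohB1.ProjSpace n k).presheaf.stalk (g x)) ((CohB1.ProjSpace n K).presheaf.stalk x) :=
        Flat.stalkMap g x
      exact (injective_stalk_pullback_iff g ι x).2
        (Module.Flat.lTensor_preserves_injective_linearMap _ ((mono_iff_stalk ι).1 inferInstance _))
    infer_instance
  haveI := isNoetherian_projSpace (k := k) (n := n)
  haveI := isNoetherian_projSpace (k := K) (n := n)
  have hFK : Coh.IsCoh ((Scheme.Modules.pullback g).obj F) := PullbackMod.isCoh_pullback g F hF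
  have h := regular_of_sub_free_infinite hn ((Scheme.Modules.pullback g).map ι ≫ (DCohLib.pullFreeIso g p).hom)
    hFK f fun r => (euler_bcMap K hF r).trans (hf r)
  intro i hi hin
  obtain ⟨e⟩ := nonempty_tensor_pullback K F (mumB n p (n + 1) f - i)
  obtain ⟨e'⟩ := nonempty_hh_bcMap K (isCoh_twistBy hF (mumB n p (n + 1) f - i)).1 i
  haveI := h i hi hin
  haveI := @ProjCoh.subsingleton_of_iso _ _ _ e.symm i (h i hi hin)
  haveI := e'.toEquiv.subsingleton
  exact (Module.FaithfullyFlat.subsingleton_tensorProduct_iff_right k K).1 inferInstance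

end Groth.Agent.CMRegLib
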