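import Groth.Agent.CMRegLib.General
import Groth.Agent.DCohLib.Pullback
import Groth.Agent.CurveLib.Euler

/-!
# Mumford's bound on regularity
-/

set_option autoImplicit false
set_option linter.style.haveILetI false
set_option backward.isDefEq.respectTransparency false
set_option maxHeartbeats 200000

universe u

open CategoryTheory CategoryTheory.Limits AlgebraicGeometry TopologicalSpace Opposite
open Groth.Agent.DCohLib Groth.Agent.PullbackMod

noncomputable section

namespace Groth.Agent.CMRegLib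

/-- Mumford's bound. -/
def mumB (n p : ℕ) : ℕ → (ℤ → ℤ) → ℤ
  | 0, _ => 1
  | d + 1, f =>
    let m := mumB n p d (fun t => f t - f (t - 1)) ^ 2 + 1
    m + ((p * ((m - 1).toNat + n).choose n : ℕ) : ℤ) + |f (m - 1)|

variable {k : Type u} [Field k] {n : ℕ}

local notation "PS" => CohB1.ProjSpace n k
local notation "O(" d ")" => Twist.twistProjSpace n k d

/-- The forms killing a module. -/
def killedSub (W : (PS).Modules) : Submodule k (Fin (n + 1) → k) where
  carrier := {c | Killed c W}
  add_mem' := fun {c d} hc hd i x hx z => by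
    rw [linRatio_add, map_add, add_smul, hc i x hx z, hd i x hx z, add_zero]
  zero_mem' := fun i x hx z => by rw [linRatio_zero, map_zero, zero_smul]
  smul_mem' := fun r c hc i x hx z => by rw [linRatio_smul, map_mul, mul_smul, hc i x hx z, smul_zero]

theorem isZero_of_killed_top {W : (PS).Modules} (h : killedSub W = ⊤) : IsZero W := by
  refine (IsZero.iff_id_eq_zero _).2 (hom_ext_stalk fun x => LinearMap.ext fun z => ?_)
  obtain ⟨i, hx⟩ := exists_mem (k := k) (n := n) x
  have h1 : Killed (Pi.single i 1 : Fin (n + 1) → k) W := h.ge (Submodule.mem_top : (Pi.single i 1 : Fin (n + 1) → k) ∈ ⊤)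
  have h2 : z = 0 := (((linRatio_single i).map ((PS).presheaf.germ _ x hx).hom).smul_eq_zero).1 (h1 i x hx z)
  rw [h2, map_zero, map_zero]

theorem isZero_of_mono {F W : (PS).Modules} (ι : F ⟶ W) [Mono ι] (h : IsZero W) : IsZero F := by
  refine (IsZero.iff_id_eq_zero _).2 ((cancel_mono ι).1 ?_)
  exact h.eq_of_tgt _ _

theorem isCoh_cokernel_linMap {W : (PS).Modules} (hW : Coh.IsCoh W) (c : Fin (n + 1) → k) :
    Coh.IsCoh (cokernel (linMap c W)) :=
  haveI := isNoetherian_projSpace (k := k) (n := n)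
  (QCohLib.isCoh_kernel_cokernel (linMap c W) (isCoh_twistBy hW (-1)) hW).2

theorem regular_cokernel {W : (PS).Modules} (hW : Coh.IsCoh W) (h : Curv2.IsMRegular k n W 0)
    (c : Fin (n + 1) → k) [Mono (linMap c W)] : Curv2.IsMRegular k n (cokernel (linMap c W)) 0 := fun i hi _ => by
  have hS := shortExact_coker (linMap c W)
  refine HT.right hS (vanish hW h hi) ?_
  exact HT.twist (show -1 + (0 - (i : ℤ)) = -1 + (0 - (i : ℤ)) from rfl)
    (vanish_ge hW h (by omega) (by push_cast; omega))

theorem finrank_H0_cokernel {W : (PS).Modules} (hW : Coh.IsCoh W) (h : Curv2.IsMRegular k n W 0)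
    (c : Fin (n + 1) → k) [Mono (linMap c W)] (t : ℕ) :
    Module.finrank k (Coh.HH PS (CohB1.tensorMod (cokernel (linMap c W)) (O((t : ℤ)))) 0) ≤
      Module.finrank k (Coh.HH PS (CohB1.tensorMod W (O((t : ℤ)))) 0) := by
  haveI : IsProper (PS ↘ Spec (CommRingCat.of k)) := CompleteCurve.isProper_toSpec n k
  have hT := shortExact_twSeq (shortExact_coker (linMap c W)) (t : ℤ)
  haveI := EulerIneqLib.finite_HH (k := k) (X := PS) (isCoh_twistBy hW (t : ℤ)) 0
  haveI : Subsingleton (Coh.HH PS (twSeq (ShortComplex.mk (linMap c W) _ (cokernel.condition _)) (t : ℤ)).X₁ (0 + 1)) :=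
    HT.twist rfl (vanish_ge hW h (by omega) (by push_cast; omega))
  refine LinearMap.finrank_le_finrank_of_surjective
    (f := CurveLib.hMap (k := k) (twSeq (ShortComplex.mk (linMap c W) _ (cokernel.condition _)) (t : ℤ)).g 0) ?_
  rw [← LinearMap.range_eq_top, CurveLib.range_hMap_g hT 0, LinearMap.ker_eq_top]
  exact LinearMap.ext fun _ => Subsingleton.elim _ _

theorem euler_tw {A B C : (PS).Modules} (a : A ⟶ B) (b : B ⟶ C) (w : a ≫ b = 0)
    (hS : (ShortComplex.mk a b w).ShortExact) (h1 : Coh.IsCoh A) (h2 : Coh.IsCoh B) (h3 : Coh.IsCoh C) (r : ℤ) :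
    Curv2.euler k PS (CohB1.tensorMod B (O(r))) =
      Curv2.euler k PS (CohB1.tensorMod A (O(r))) + Curv2.euler k PS (CohB1.tensorMod C (O(r))) := by
  haveI : IsProper (PS ↘ Spec (CommRingCat.of k)) := CompleteCurve.isProper_toSpec n k
  exact CurveLib.euler_shortExact (K := k) (shortExact_twSeq hS r) (isCoh_twistBy h1 r) (isCoh_twistBy h2 r)
    (isCoh_twistBy h3 r)

theorem euler_untwist (F : (PS).Modules) {a b c : ℤ} (h : a + b = c) :
    Curv2.euler k PS (CohB1.tensorMod (CohB1.tensorMod F (O(a))) (O(b))) =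
      Curv2.euler k PS (CohB1.tensorMod F (O(c))) :=
  haveI : IsProper (PS ↘ Spec (CommRingCat.of k)) := CompleteCurve.isProper_toSpec n k
  CurveLib.euler_iso (@asIso _ _ _ _ (mulMap F h) (isIso_mulMap F h))

theorem euler_of_seq {F C : (PS).Modules} (hF : Coh.IsCoh F) (hC : Coh.IsCoh C) (r : ℤ)
    (f : CohB1.tensorMod F (O(-1)) ⟶ F) (g : F ⟶ C) (w : f ≫ g = 0) (hS : (ShortComplex.mk f g w).ShortExact) :
    Curv2.euler k PS (CohB1.tensorMod C (O(r))) =
      Curv2.euler k PS (CohB1.tensorMod F (O(r))) - Curv2.euler k PS (CohB1.tensorMod F (O(r - 1))) := by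
  have h := euler_tw f g w hS (isCoh_twistBy hF (-1)) hF hC r
  exact eq_sub_of_add_eq' (h.trans (congrArg (· + _) (euler_untwist F (show -1 + r = r - 1 by ring)))).symm

theorem euler_cokernel {F : (PS).Modules} (hF : Coh.IsCoh F) (c : Fin (n + 1) → k) [Mono (linMap c F)] (r : ℤ) :
    Curv2.euler k PS (CohB1.tensorMod (cokernel (linMap c F)) (O(r))) =
      Curv2.euler k PS (CohB1.tensorMod F (O(r))) - Curv2.euler k PS (CohB1.tensorMod F (O(r - 1))) :=
  euler_of_seq (C := cokernel (linMap c F)) hF (isCoh_cokernel_linMap hF c) r (linMap c F) (cokernel.π (linMap c F))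
    (cokernel.condition (linMap c F)) (shortExact_coker (linMap c F))

theorem mono_of_snake {X : Scheme.{u}} {A B C F W Q G H : X.Modules} (a : A ⟶ B) (b : B ⟶ C) [Epi b] (wab : a ≫ b = 0)
    (hab : (ShortComplex.mk a b wab).Exact) (ι : F ⟶ W) [Mono ι] (q : W ⟶ Q) (hιq : ι ≫ q = 0)
    (lA : A ⟶ F) (lB : B ⟶ W) (lC : C ⟶ Q) [Mono lC] (sq1 : a ≫ lB = lA ≫ ι) (sq2 : b ≫ lC = lB ≫ q)
    (πF : F ⟶ G) [Epi πF] (hF0 : lA ≫ πF = 0) (πW : W ⟶ H) [Epi πW] (wW : lB ≫ πW = 0)
    (hW : (ShortComplex.mk lB πW wW).Exact) (g : G ⟶ H) (hg : πF ≫ g = ι ≫ πW) : Mono g := by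
  refine (mono_iff_stalk _).2 fun x => (injective_iff_map_eq_zero _).2 fun z hz => ?_
  obtain ⟨v, rfl⟩ := (epi_iff_stalk πF).1 inferInstance x z
  rw [← LinearMap.comp_apply, ← stalkLin_comp, hg, stalkLin_comp, LinearMap.comp_apply] at hz
  obtain ⟨w, hw⟩ := (@exact_stalkLin _ _ hW (‹Epi πW›) x _).1 hz
  change stalkLin lB x w = stalkLin ι x v at hw
  have h0 : stalkLin lC x (stalkLin b x w) = 0 := by
    rw [← LinearMap.comp_apply, ← stalkLin_comp, sq2, stalkLin_comp, LinearMap.comp_apply, hw,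
      ← LinearMap.comp_apply, ← stalkLin_comp, hιq, DevLib.stalkLin_zero, LinearMap.zero_apply]
  have hqw : stalkLin b x w = 0 := (mono_iff_stalk lC).1 inferInstance x (h0.trans (map_zero _).symm)
  obtain ⟨v', hv'⟩ := (@exact_stalkLin _ _ hab (‹Epi b›) x w).1 hqw
  change stalkLin a x v' = w at hv'
  have hv : v = stalkLin lA x v' := by
    refine (mono_iff_stalk ι).1 inferInstance x ?_
    rw [← hw, ← hv', ← LinearMap.comp_apply, ← stalkLin_comp, sq1, stalkLin_comp, LinearMap.comp_apply]
  rw [hv, ← LinearMap.comp_apply, ← stalkLin_comp, hF0, DevLib.stalkLin_zero, LinearMap.zero_apply]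

theorem exists_mono_cokernel_map {F W : (PS).Modules} (ι : F ⟶ W) [Mono ι] (c : Fin (n + 1) → k)
    [Mono (linMap c (cokernel ι))] :
    ∃ g : cokernel (linMap c F) ⟶ cokernel (linMap c W), Mono g := by
  have hS := shortExact_twSeq (shortExact_coker ι) (-1)
  haveI : Epi ((CurveLib.tensR (O(-1))).map (cokernel.π ι)) := hS.epi_g
  exact ⟨cokernel.map (linMap c F) (linMap c W) ((CurveLib.tensR (O(-1))).map ι) ι (linMap_natural c ι).symm,
    mono_of_snake ((CurveLib.tensR (O(-1))).map ι) ((CurveLib.tensR (O(-1))).map (cokernel.π ι)) _ hS.exact ι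
      (cokernel.π ι) (cokernel.condition ι) (linMap c F) (linMap c W) (linMap c (cokernel ι))
      (linMap_natural c ι) (linMap_natural c (cokernel.π ι))
      (cokernel.π (linMap c F)) (cokernel.condition _) (cokernel.π (linMap c W)) (cokernel.condition _)
      (ShortComplex.exact_of_g_is_cokernel _ (cokernelIsCokernel _)) _ (cokernel.π_desc _ _ _)⟩

theorem finrank_H0_mono {A B : (PS).Modules} (ι : A ⟶ B) [Mono ι] (hB : Coh.IsCoh B) (r : ℤ) :
    Module.finrank k (Coh.HH PS (CohB1.tensorMod A (O(r))) 0) ≤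
      Module.finrank k (Coh.HH PS (CohB1.tensorMod B (O(r))) 0) := by
  haveI : IsProper (PS ↘ Spec (CommRingCat.of k)) := CompleteCurve.isProper_toSpec n k
  haveI := EulerIneqLib.finite_HH (k := k) (X := PS) (isCoh_twistBy hB r) 0
  have hS := shortExact_twSeq (shortExact_coker ι) r
  have hinj := CurveLib.hMap_f_zero_injective (k := k) hS
  exact LinearMap.finrank_le_finrank_of_injective
    (f := CurveLib.hMap (k := k) ((CurveLib.tensR (O(r))).map ι) 0) hinj

/-- Mumford's regularity bound for subsheaves of a regular module. -/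
theorem regular_of_sub [Infinite k] (p : ℕ) : ∀ (d : ℕ) (f : ℤ → ℤ) (F W : (PS).Modules) (ι : F ⟶ W) [Mono ι],
    Coh.IsCoh F → Coh.IsCoh W → Curv2.IsMRegular k n W 0 →
    (∀ t : ℕ, Module.finrank k (Coh.HH PS (CohB1.tensorMod W (O((t : ℤ)))) 0) ≤ p * (t + n).choose n) →
    n + 1 ≤ Module.finrank k (killedSub W) + d →
    (∀ r : ℤ, Curv2.euler k PS (CohB1.tensorMod F (O(r))) = f r) →
    Curv2.IsMRegular k n F (mumB n p d f) := by
  intro d
  induction d with
  | zero =>
    intro f F W ι _ _ _ _ _ hk _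
    refine regular_zero' (isZero_of_mono ι (isZero_of_killed_top (Submodule.eq_top_of_finrank_eq ?_))) _
    have := Submodule.finrank_le (killedSub W)
    rw [Module.finrank_fin_fun] at this ⊢
    omega
  | succ d ih =>
    intro f F W ι _ hF hW hWreg hWh0 hk hf
    by_cases htop : killedSub W = ⊤
    · exact regular_zero' (isZero_of_mono ι (isZero_of_killed_top htop)) _
    haveI := isNoetherian_projSpace (k := k) (n := n)
    have hQ : Coh.IsCoh (cokernel ι) := (QCohLib.isCoh_kernel_cokernel ι hF hW).2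
    obtain ⟨c, hc, hcW, hcQ⟩ := exists_general hW hQ htop
    haveI := hcW
    haveI := hcQ
    haveI : Mono (linMap c F) := mono_linMap_of_mono c ι
    obtain ⟨g, hg⟩ := exists_mono_cokernel_map ι c
    have hlt : killedSub W < killedSub (cokernel (linMap c W)) :=
      lt_of_le_of_ne (fun e he => Killed.of_epi e (cokernel.π _) he)
        fun h => hc (h.ge (show Killed c _ from killed_cokernel c W))
    have hdim := Submodule.finrank_lt_finrank_of_lt hlt
    have hG := @ih (fun t => f t - f (t - 1)) (cokernel (linMap c F)) (cokernel (linMap c W)) g hg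
      (isCoh_cokernel_linMap hF c) (isCoh_cokernel_linMap hW c) (regular_cokernel hW hWreg c)
      (fun t => (finrank_H0_cokernel hW hWreg c t).trans (hWh0 t)) (by omega)
      (fun r => by rw [euler_cokernel hF c r, hf, hf])
    let m := mumB n p d (fun t => f t - f (t - 1)) ^ 2 + 1
    have hm : Curv2.IsMRegular k n (cokernel (linMap c F)) m :=
      regular_mono (isCoh_cokernel_linMap hF c) (by
        have h1 := Int.le_self_sq (mumB n p d (fun t => f t - f (t - 1)))
        simp only [m]; omega) hG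
    have hm1 : 1 ≤ m := by
      have h1 := sq_nonneg (mumB n p d (fun t => f t - f (t - 1)))
      simp only [m]; omega
    obtain ⟨hi, -, -, hFreg⟩ := drop_main hF (isCoh_cokernel_linMap hF c) (isCoh_twistBy hF (-1)) (Iso.refl _)
      (shortExact_coker (linMap c F)) hm
    refine regular_mono hF ?_ hFreg
    show m + (h1 F (m - 1) : ℤ) ≤ m + ((p * ((m - 1).toNat + n).choose n : ℕ) : ℤ) + |f (m - 1)|
    haveI : IsProper (PS ↘ Spec (CommRingCat.of k)) := CompleteCurve.isProper_toSpec n k
    have he : f (m - 1) = (Module.finrank k (Coh.HH PS (CohB1.tensorMod F (O(m - 1))) 0) : ℤ) - (h1 F (m - 1) : ℤ) := by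
      rw [← hf, CurveLib.euler_eq_sum (K := k) _ 2 fun i hi2 => hi i (m - 1) hi2 (by omega),
        Finset.sum_range_succ, Finset.sum_range_one]
      ring
    have hle : Module.finrank k (Coh.HH PS (CohB1.tensorMod F (O(m - 1))) 0) ≤ p * ((m - 1).toNat + n).choose n := by
      have h1 := hWh0 (m - 1).toNat
      rw [Int.toNat_of_nonneg (by omega)] at h1
      exact le_trans (finrank_H0_mono ι hW (m - 1)) h1
    have habs := neg_abs_le (f (m - 1))
    have : ((Module.finrank k (Coh.HH PS (CohB1.tensorMod F (O(m - 1))) 0) : ℕ) : ℤ) ≤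
        ((p * ((m - 1).toNat + n).choose n : ℕ) : ℤ) := Int.ofNat_le.2 hle
    omega
where
  regular_zero' {M : (PS).Modules} (hM : IsZero M) (m : ℤ) : Curv2.IsMRegular k n M m := fun i _ _ =>
    subsingleton_zero (((CurveLib.tensR (O(m - i))).map_isZero hM)) i

end Groth.Agent.CMRegLib
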