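import Groth.Agent.KoszulCech.Cone
import Groth.Agent.DCohLib.TensorExact
import Groth.Agent.SerreAff.Basic

/-!
# Iterated cones of commuting families of maps between complexes of modules
-/

set_option autoImplicit false
set_option backward.isDefEq.respectTransparency false

universe u v v₂ u₂

open CategoryTheory CategoryTheory.Limits AlgebraicGeometry CochainComplex CochainComplex.HomComplex

noncomputable section

namespace Groth.Agent.CMRegLib

section Elements

variable {A : Type u} [CommRing A]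

open Groth.Agent.KoszulCech

/-- Acyclicity by elements. -/
def Ac (K : CochainComplex (ModuleCat.{u} A) ℤ) : Prop :=
  ∀ (i j : ℤ), i + 1 = j → ∀ (k : ℤ), j + 1 = k → ∀ y : K.X j, K.d j k y = 0 → ∃ z : K.X i, K.d i j z = y

theorem ac_iff (K : CochainComplex (ModuleCat.{u} A) ℤ) : Ac K ↔ K.Acyclic := by
  constructor
  · intro h j
    rw [HomologicalComplex.exactAt_iff' K (j - 1) j (j + 1) (by simp) (by simp),
      ShortComplex.moduleCat_exact_iff]
    exact fun y hy => h (j - 1) j (by omega) (j + 1) rfl y hy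
  · intro h i j hij k hjk y hy
    have := h j
    rw [HomologicalComplex.exactAt_iff' K i j k (by simp; omega) (by simp; omega),
      ShortComplex.moduleCat_exact_iff] at this
    exact this y hy

variable {K L : CochainComplex (ModuleCat.{u} A) ℤ} (φ : K ⟶ L)

theorem ac_cone_of_bijective (h : ∀ j, Function.Bijective (φ.f j)) : Ac (mappingCone φ) := by
  intro i j hij k hjk y hy
  obtain ⟨c, hc⟩ := (h j).2 (csnd φ j y)
  refine ⟨cmk φ i j hij c 0, cone_ext φ hjk ?_ ?_⟩
  · rw [cfst_d φ hij hjk, cfst_cmk]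
    apply (h k).1
    have h1 : φ.f k (cfst φ j k hjk y) + L.d j k (csnd φ j y) = 0 := by
      rw [← csnd_d φ hjk, hy, map_zero]
    rw [map_neg, show φ.f k (K.d j k c) = L.d j k (φ.f j c) from ConcreteCategory.congr_hom (φ.comm j k).symm c, hc]
    exact neg_eq_of_add_eq_zero_left h1
  · rw [csnd_d φ hij, cfst_cmk, csnd_cmk, map_zero, add_zero, hc]

theorem ac_cone_of_ac (hK : Ac K) (hL : Ac L) : Ac (mappingCone φ) := by
  intro i j hij k hjk y hy
  have h0 : K.d k (k + 1) (cfst φ j k hjk y) = 0 := by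
    have := cfst_d φ hjk (rfl : k + 1 = k + 1) y
    rw [hy, map_zero] at this
    exact neg_eq_zero.1 this.symm
  obtain ⟨a, ha⟩ := hK j k hjk _ rfl _ h0
  have h1 : φ.f k (cfst φ j k hjk y) + L.d j k (csnd φ j y) = 0 := by
    rw [← csnd_d φ hjk, hy, map_zero]
  obtain ⟨b, hb⟩ := hL i j hij k hjk (csnd φ j y + φ.f j a) (by
    rw [map_add, show L.d j k (φ.f j a) = φ.f k (K.d j k a) from ConcreteCategory.congr_hom (φ.comm j k) a, ha,
      add_comm]
    exact h1)
  refine ⟨cmk φ i j hij (-a) b, cone_ext φ hjk ?_ ?_⟩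
  · rw [cfst_d φ hij hjk, cfst_cmk, map_neg, neg_neg, ha]
  · rw [csnd_d φ hij, cfst_cmk, csnd_cmk, map_neg, hb]
    abel

end Elements

section Functor

variable {C : Type u} [Category.{v} C] [Preadditive C] {D : Type u₂} [Category.{v₂} D] [Preadditive D]
  (G : C ⥤ D) [G.Additive]

theorem isIso_sum {M M' A A' B B' : D} (f : M ⟶ A) (i : A ⟶ M) (s : M ⟶ B) (r : B ⟶ M)
    (f' : M' ⟶ A') (i' : A' ⟶ M') (s' : M' ⟶ B') (r' : B' ⟶ M')
    (h1 : i ≫ f = 𝟙 A) (h2 : i ≫ s = 0) (h3 : r ≫ f = 0) (h4 : r ≫ s = 𝟙 B)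
    (h1' : i' ≫ f' = 𝟙 A') (h2' : i' ≫ s' = 0) (h3' : r' ≫ f' = 0) (h4' : r' ≫ s' = 𝟙 B')
    (ht : f ≫ i + s ≫ r = 𝟙 M) (ht' : f' ≫ i' + s' ≫ r' = 𝟙 M')
    (P : A ⟶ A') (Q : B ⟶ B') [IsIso P] [IsIso Q] :
    IsIso (f ≫ P ≫ i' + s ≫ Q ≫ r') := by
  refine ⟨⟨f' ≫ inv P ≫ i + s' ≫ inv Q ≫ r, ?_, ?_⟩⟩
  · simp [Preadditive.add_comp, Preadditive.comp_add, reassoc_of% h1', reassoc_of% h2', reassoc_of% h3',
      reassoc_of% h4', ht]
  · simp [Preadditive.add_comp, Preadditive.comp_add, reassoc_of% h1, reassoc_of% h2, reassoc_of% h3,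
      reassoc_of% h4, ht']

theorem isIso_map_coneMap_f [HasBinaryBiproducts C] {K L K' L' : CochainComplex C ℤ} (φ : K ⟶ L) (φ' : K' ⟶ L')
    (p : K ⟶ K') (q : L ⟶ L') (comm : φ ≫ q = p ≫ φ') (j : ℤ)
    (hp : IsIso (G.map (p.f (j + 1)))) (hq : IsIso (G.map (q.f j))) :
    IsIso (G.map ((mappingCone.map φ φ' p q comm).f j)) := by
  have hm : (mappingCone.map φ φ' p q comm).f j =
      (mappingCone.fst φ).1.v j (j + 1) rfl ≫ p.f (j + 1) ≫ (mappingCone.inl φ').v (j + 1) j (by omega) +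
        (mappingCone.snd φ).v j j (add_zero j) ≫ q.f j ≫ (mappingCone.inr φ').f j := by
    simp [mappingCone.ext_from_iff _ (j + 1) j rfl, mappingCone.map]
  rw [hm, G.map_add, G.map_comp, G.map_comp, G.map_comp, G.map_comp]
  exact isIso_sum _ _ _ _ _ _ _ _
    (by rw [← G.map_comp, mappingCone.inl_v_fst_v, G.map_id])
    (by rw [← G.map_comp, mappingCone.inl_v_snd_v, G.map_zero])
    (by rw [← G.map_comp, mappingCone.inr_f_fst_v, G.map_zero])
    (by rw [← G.map_comp, mappingCone.inr_f_snd_v, G.map_id])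
    (by rw [← G.map_comp, mappingCone.inl_v_fst_v, G.map_id]; rfl)
    (by rw [← G.map_comp, mappingCone.inl_v_snd_v, G.map_zero])
    (by rw [← G.map_comp, mappingCone.inr_f_fst_v, G.map_zero])
    (by rw [← G.map_comp, mappingCone.inr_f_snd_v, G.map_id])
    (by rw [← G.map_comp, ← G.map_comp, ← G.map_add, mappingCone.id_X _ j (j + 1) rfl, G.map_id])
    (by rw [← G.map_comp, ← G.map_comp, ← G.map_add, mappingCone.id_X _ j (j + 1) rfl, G.map_id])
    _ _

end Functor

variable {X : Scheme.{u}}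

open Groth.Agent.DCohLib

/-- A commuting family of maps of complexes. -/
structure MFam (X : Scheme.{u}) (ι : Type) where
  /-- The complexes. -/
  K : ℤ → CochainComplex X.Modules ℤ
  /-- The maps. -/
  μ : ι → ∀ d : ℤ, K (d - 1) ⟶ K d
  comm : ∀ a b d, μ a (d - 1) ≫ μ b d = μ b (d - 1) ≫ μ a d

variable {ι : Type}

/-- The cone on one member of the family. -/
def MFam.cone (A : MFam X ι) (a : ι) : MFam X ι where
  K d := mappingCone (A.μ a d)
  μ b d := mappingCone.map _ _ (A.μ b (d - 1)) (A.μ b d) (A.comm a b d)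
  comm b c d := by
    rw [← mappingCone.map_comp, ← mappingCone.map_comp]
    congr 1 <;> exact A.comm b c _

/-- The stalk complex at a point. -/
abbrev stkC (x : X) : CochainComplex X.Modules ℤ ⥤ CochainComplex (ModuleCat.{u} (X.presheaf.stalk x)) ℤ :=
  (stkF x).mapHomologicalComplex (ComplexShape.up ℤ)

theorem acyclic_stk_cone (A : MFam X ι) (a : ι) (x : X) (d : ℤ)
    (h : (∀ j, IsIso ((stkF x).map ((A.μ a d).f j))) ∨
      (((stkC x).obj (A.K (d - 1))).Acyclic ∧ ((stkC x).obj (A.K d)).Acyclic)) :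
    ((stkC x).obj ((A.cone a).K d)).Acyclic := by
  suffices hs : Ac (mappingCone ((stkC x).map (A.μ a d))) from fun j =>
    (((ac_iff _).1 hs) j).of_iso (mappingCone.mapHomologicalComplexIso (A.μ a d) (stkF x)).symm
  rcases h with h | ⟨h1, h2⟩
  · refine ac_cone_of_bijective _ fun j => ?_
    haveI := h j
    exact ConcreteCategory.bijective_of_isIso ((stkF x).map ((A.μ a d).f j))
  · exact ac_cone_of_ac _ ((ac_iff _).2 h1) ((ac_iff _).2 h2)

theorem isIso_stk_cone (A : MFam X ι) (a b : ι) (x : X)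
    (h : ∀ d j, IsIso ((stkF x).map ((A.μ b d).f j))) (d j : ℤ) :
    IsIso ((stkF x).map (((A.cone a).μ b d).f j)) :=
  isIso_map_coneMap_f (stkF x) _ _ _ _ (A.comm a b d) j (h _ _) (h _ _)

end Groth.Agent.CMRegLib
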