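import Groth.Agent.CMRegLib.Seq

/-!
# Regularity through complexes with small homology
-/

set_option autoImplicit false
set_option backward.isDefEq.respectTransparency false

universe u

open CategoryTheory CategoryTheory.Limits AlgebraicGeometry TopologicalSpace Opposite

noncomputable section

namespace Groth.Agent.CMRegLib

variable {k : Type u} [Field k] {n : ℕ}

local notation "PS" => CohB1.ProjSpace n k

theorem isZero_tensor {X : Scheme.{u}} {M : X.Modules} (hM : IsZero M) (L : X.Modules) :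
    IsZero (CohB1.tensorMod M L) :=
  (CurveLib.tensR L).map_isZero hM

theorem regular_zero {M : (PS).Modules} (hM : IsZero M) (m : ℤ) : Curv2.IsMRegular k n M m := by
  intro i _ _
  exact subsingleton_zero (X := PS) (isZero_tensor (X := PS) hM (Twist.twistProjSpace n k (m - i))) i

/-- An epi-mono factorisation computes the image. -/
theorem nonempty_iso_image {X : Scheme.{u}} {A B J : X.Modules} (f : A ⟶ B) (e : A ⟶ J) (μ : J ⟶ B)
    [Epi e] [Mono μ] (h : e ≫ μ = f) : Nonempty (J ≅ Abelian.image f) := by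
  subst h
  let ψ : J ⟶ Abelian.image (e ≫ μ) := kernel.lift _ μ (by
    rw [← cancel_epi e, comp_zero, ← Category.assoc]
    exact cokernel.condition (e ≫ μ))
  have hψ : ψ ≫ Abelian.image.ι (e ≫ μ) = μ := kernel.lift_ι _ _ _
  haveI : Mono ψ := mono_of_mono_fac hψ
  have h2 : e ≫ ψ = Abelian.factorThruImage (e ≫ μ) := by
    rw [← cancel_mono (Abelian.image.ι (e ≫ μ)), Category.assoc, hψ, Abelian.image.fac]
  haveI : Epi ψ := epi_of_epi_fac h2
  haveI := isIso_of_mono_of_epi ψ
  exact ⟨asIso ψ⟩

theorem regular_image_succ (E : ChainComplex ((PS).Modules) ℕ) (hcoh : ∀ s, Coh.IsCoh (E.X s)) (d : ℤ)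
    (hreg : ∀ s : ℕ, Curv2.IsMRegular k n (E.X s) (d + s))
    (hsupp : ∀ i : ℕ, 0 < i → topologicalKrullDim (CohB1.support (E.homology i)) ≤ 1) (s : ℕ)
    (ih : Curv2.IsMRegular k n (Abelian.image (E.d (s + 2) (s + 1))) (d + (s + 1 : ℕ) + 1)) :
    Curv2.IsMRegular k n (Abelian.image (E.d (s + 1) s)) (d + s + 1) := by
  haveI := isNoetherian_projSpace (k := k) (n := n)
  let f := E.d (s + 2) (s + 1)
  let g := E.d (s + 1) s
  let l : E.X (s + 2) ⟶ kernel g := kernel.lift g f (E.d_comp_d _ _ _)
  let e : E.X (s + 2) ⟶ Abelian.image l := Abelian.factorThruImage l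
  obtain ⟨iso⟩ := nonempty_iso_image f e (Abelian.image.ι l ≫ kernel.ι g)
    (by rw [← Category.assoc, Abelian.image.fac, kernel.lift_ι])
  have hB : Coh.IsCoh (Abelian.image f) := (QCohLib.isCoh_kernel_cokernel (cokernel.π f) (hcoh _) (QCohLib.isCoh_kernel_cokernel f (hcoh _) (hcoh _)).2).1
  have hH : E.homology (s + 1) ≅ cokernel l := by
    refine E.homologyIsoSc' (s + 2) (s + 1) s (by simp) (by simp) ≪≫ ?_
    exact (ShortComplex.LeftHomologyData.ofHasKernelOfHasCokernel (E.sc' (s + 2) (s + 1) s)).homologyIso ≪≫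
      Iso.refl _
  intro i hi _
  have hZ : HT (kernel g) (d + s + 1 - (i : ℤ)) (i + 1) := by
    have h3 : HT (cokernel l) (d + s + 1 - (i : ℤ)) (i + 1) := by
      refine HT.iso hH ?_
      refine vanish_of_support ?_ (r := 1) (by simpa using hsupp (s + 1) (Nat.succ_pos s)) _ (by omega)
      exact ProjCoh.isCoh_of_iso hH.symm (QCohLib.isCoh_kernel_cokernel l (hcoh _)
        (QCohLib.isCoh_kernel_cokernel g (hcoh _) (hcoh _)).1).2
    have h1 : HT (Abelian.image l) (d + s + 1 - (i : ℤ)) (i + 1) := by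
      refine HT.iso iso.symm ?_
      exact vanish_ge hB ih (by omega) (by push_cast; omega)
    exact HT.mid (S := ShortComplex.mk (Abelian.image.ι l) (cokernel.π l) (kernel.condition _))
      (ShortComplex.ShortExact.mk' (ShortComplex.exact_of_f_is_kernel _ (kernelIsKernel _)) inferInstance inferInstance)
      h1 h3
  obtain ⟨iso2⟩ := nonempty_iso_image g (cokernel.π (kernel.ι g)) (cokernel.desc _ g (kernel.condition g))
    (cokernel.π_desc _ _ _)
  refine HT.iso iso2 (HT.right (shortExact_coker (kernel.ι g)) ?_ hZ)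
  exact vanish_ge (hcoh _) (hreg (s + 1)) hi (by push_cast; omega)

theorem regular_image_zero (E : ChainComplex ((PS).Modules) ℕ) (t : ℕ) (hbdd : ∀ s : ℕ, t < s → IsZero (E.X s))
    (hcoh : ∀ s : ℕ, Coh.IsCoh (E.X s)) (d : ℤ)
    (hreg : ∀ s : ℕ, Curv2.IsMRegular k n (E.X s) (d + s))
    (hsupp : ∀ i : ℕ, 0 < i → topologicalKrullDim (CohB1.support (E.homology i)) ≤ 1) :
    ∀ (j s : ℕ), t ≤ s + j → Curv2.IsMRegular k n (Abelian.image (E.d (s + 1) s)) (d + s + 1) := by
  intro j
  induction j with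
  | zero =>
    intro s hs
    refine regular_zero ?_ _
    exact IsZero.of_epi (Abelian.factorThruImage (E.d (s + 1) s)) (hbdd _ (by omega))
  | succ j ih =>
    intro s hs
    exact regular_image_succ E hcoh d hreg hsupp s (by have := ih (s + 1) (by omega); exact this)

end Groth.Agent.CMRegLib
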