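import Groth.Agent.CMRegLib.Bound

/-!
# The Euler characteristic of the twists is a polynomial, over an infinite field
-/

set_option autoImplicit false
set_option linter.style.haveILetI false
set_option backward.isDefEq.respectTransparency false

universe u

open CategoryTheory CategoryTheory.Limits AlgebraicGeometry TopologicalSpace Opposite

noncomputable section

namespace Groth.Agent.CMRegLib

theorem exists_binomial_antidiff (f : ℤ → ℤ) {N : ℕ} {b : ℕ → ℤ}
    (h : ∀ t, f t - f (t - 1) = ∑ j ∈ Finset.range N, b j * Ring.choose t j) :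
    ∀ t, f t = f 0 + ∑ j ∈ Finset.range N, b j * (Ring.choose (t + 1) (j + 1) - Ring.choose 1 (j + 1)) := by
  intro t
  induction t with
  | zero => simp
  | succ i ih =>
    have h1 := h (i + 1)
    rw [add_sub_cancel_right] at h1
    rw [show f (i + 1) = (f (i + 1) - f i) + f i by ring, h1, ih, add_left_comm, ← Finset.sum_add_distrib]
    refine congrArg (f 0 + ·) (Finset.sum_congr rfl fun j _ => ?_)
    rw [Ring.choose_succ_succ ((i : ℤ) + 1) j]
    ring
  | pred i ih =>
    have h1 := h (-(i : ℤ))
    rw [show f (-(i : ℤ) - 1) = f (-(i : ℤ)) - (f (-(i : ℤ)) - f (-(i : ℤ) - 1)) by ring, h1, ih, add_sub_assoc,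
      ← Finset.sum_sub_distrib]
    refine congrArg (f 0 + ·) (Finset.sum_congr rfl fun j _ => ?_)
    rw [sub_add_cancel, Ring.choose_succ_succ (-(i : ℤ)) j]
    ring

theorem choose_eq_eval (j : ℕ) (t : ℤ) :
    ((Ring.choose t j : ℤ) : ℚ) = (Polynomial.C ((j.factorial : ℚ)⁻¹) * descPochhammer ℚ j).eval (t : ℚ) := by
  rw [show ((Ring.choose t j : ℤ) : ℚ) = (Int.castRingHom ℚ) (Ring.choose t j) from rfl, Ring.map_choose,
    Ring.choose_eq_smul, Polynomial.eval_mul, Polynomial.eval_C, smul_eq_mul,
    ← descPochhammer_map (Int.castRingHom ℚ), Polynomial.eval_map, ← Polynomial.aeval_eq_smeval,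
    Polynomial.aeval_def]
  rfl

variable {k : Type u} [Field k] {n : ℕ}

local notation "PS" => CohB1.ProjSpace n k
local notation "O(" d ")" => Twist.twistProjSpace n k d

theorem exists_poly_of_killed [Infinite k] : ∀ (d : ℕ) (F : (PS).Modules), Coh.IsCoh F →
    n + 1 ≤ Module.finrank k (killedSub F) + d →
    ∃ (N : ℕ) (b : ℕ → ℤ), ∀ t : ℤ,
      Curv2.euler k PS (CohB1.tensorMod F (O(t))) = ∑ j ∈ Finset.range N, b j * Ring.choose t j := by
  have hzero : ∀ F : (PS).Modules, killedSub F = ⊤ → ∃ (N : ℕ) (b : ℕ → ℤ), ∀ t : ℤ,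
      Curv2.euler k PS (CohB1.tensorMod F (O(t))) = ∑ j ∈ Finset.range N, b j * Ring.choose t j := fun F h => by
    refine ⟨0, fun _ => 0, fun t => ?_⟩
    refine finsum_eq_zero_of_forall_eq_zero fun i => ?_
    haveI := subsingleton_zero (((CurveLib.tensR (O(t))).map_isZero (isZero_of_killed_top h))) i
    rw [show Module.finrank k (Coh.HH PS (CohB1.tensorMod F (O(t))) i) = 0 from
      @Module.finrank_zero_of_subsingleton _ _ _ _ _ _ this]
    simp
  intro d
  induction d with
  | zero =>
    intro F _ hk
    refine hzero F (Submodule.eq_top_of_finrank_eq ?_)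
    have := Submodule.finrank_le (killedSub F)
    rw [Module.finrank_fin_fun] at this ⊢
    omega
  | succ d ih =>
    intro F hF hk
    by_cases htop : killedSub F = ⊤
    · exact hzero F htop
    obtain ⟨c, hc, hcF, -⟩ := exists_general hF hF htop
    haveI := hcF
    have hlt : killedSub F < killedSub (cokernel (linMap c F)) :=
      lt_of_le_of_ne (fun e he => Killed.of_epi e (cokernel.π _) he)
        fun h => hc (h.ge (show Killed c _ from killed_cokernel c F))
    have hdim := Submodule.finrank_lt_finrank_of_lt hlt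
    obtain ⟨N, b, hb⟩ := ih (cokernel (linMap c F)) (isCoh_cokernel_linMap hF c) (by omega)
    have hanti := exists_binomial_antidiff (fun t => Curv2.euler k PS (CohB1.tensorMod F (O(t))))
      (N := N) (b := b) fun t => ((euler_cokernel hF c t).symm.trans (hb t))
    let v : ℕ → ℤ := fun j => b j
    refine ⟨N + 1, fun l => (if l < N then v l else 0) + (if l = 0 then Curv2.euler k PS (CohB1.tensorMod F (O(0))) -
      (if 0 < N then v 0 else 0) else v (l - 1)), fun t => ?_⟩
    rw [hanti t]
    simp only [add_mul, Finset.sum_add_distrib]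
    rw [Finset.sum_range_succ (fun l => (if l < N then v l else 0) * _), if_neg (lt_irrefl N), zero_mul, add_zero,
      Finset.sum_range_succ' (fun l => (if l = 0 then _ else v (l - 1)) * _)]
    have e1 : ∑ l ∈ Finset.range N, (if l < N then v l else 0) * Ring.choose t l =
        ∑ l ∈ Finset.range N, b l * Ring.choose t l :=
      Finset.sum_congr rfl fun l hl => by rw [if_pos (Finset.mem_range.1 hl)]
    simp only [Nat.succ_ne_zero, if_false, if_true, Nat.add_sub_cancel, Ring.choose_zero_right, mul_one]
    rw [e1]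
    have e2 : ∑ j ∈ Finset.range N, b j * Ring.choose (1 : ℤ) (j + 1) = if 0 < N then v 0 else 0 := by
      rcases N with _ | N
      · simp
      · rw [if_pos (Nat.succ_pos _), Finset.sum_eq_single 0]
        · simp [v]
        · intro j _ hj
          rw [← Nat.cast_one, Ring.choose_natCast, Nat.choose_eq_zero_of_lt (by omega)]
          simp
        · simp
    have e3 : ∀ j, Ring.choose (t + 1) (j + 1) = Ring.choose t j + Ring.choose t (j + 1) := fun j =>
      Ring.choose_succ_succ t j
    simp only [e3, mul_sub, mul_add, Finset.sum_sub_distrib, Finset.sum_add_distrib, e2, v]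
    ring

theorem exists_euler_poly [Infinite k] (F : (PS).Modules) (hF : Coh.IsCoh F) :
    ∃ Q : Polynomial ℚ, ∀ t : ℤ, (Curv2.euler k PS (CohB1.tensorMod F (O(t))) : ℚ) = Q.eval (t : ℚ) := by
  obtain ⟨N, b, hb⟩ := exists_poly_of_killed (n + 1) F hF (by omega)
  refine ⟨∑ j ∈ Finset.range N, Polynomial.C (b j : ℚ) * (Polynomial.C ((j.factorial : ℚ)⁻¹) * descPochhammer ℚ j),
    fun t => ?_⟩
  rw [hb t, Int.cast_sum, Polynomial.eval_finsetSum]
  refine Finset.sum_congr rfl fun j _ => ?_
  rw [Int.cast_mul, choose_eq_eval]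
  simp only [Polynomial.eval_mul, Polynomial.eval_C]

end Groth.Agent.CMRegLib
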