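import Groth.Agent.CMRegLib.Family
import Groth.Agent.HilbStratLib.ProjFibre

/-!
# Regularity and Hilbert polynomials in bounded families
-/

set_option autoImplicit false
set_option linter.style.haveILetI false
set_option backward.isDefEq.respectTransparency false

universe u

open CategoryTheory CategoryTheory.Limits AlgebraicGeometry

noncomputable section

namespace Groth.Agent.CMRegLib

variable {k : Type u} [Field k] {n : ℕ} {X : Scheme.{u}} [X.Over (Spec (CommRingCat.of k))]

theorem eul_point [IsProper (X ↘ Spec (CommRingCat.of k))] {F L : X.Modules} (hF : Coh.IsCoh F)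
    (hL : PicF.IsInvertible L) (m : ℕ) :
    HilbStratLib.eul (X ↘ Spec (CommRingCat.of k)) F L (IsLocalRing.closedPoint k) m =
      Curv2.euler k X (CohB1.tensorMod F (CohB1.tensorPow L m)) := by
  haveI := EulerIneqLib.isNoetherian_proper (X := X) k
  haveI : Coh.IsQCoh (CohB1.tensorMod F (CohB1.tensorPow L m)) :=
    (isCoh_tensor_inv hF (AmpleLib.isInvertible_tensorPow hL m)).1
  let f := X ↘ Spec (CommRingCat.of k)
  let pt : Spec (CommRingCat.of k) := IsLocalRing.closedPoint k
  letI : (f.fiber pt).Over (Spec (CommRingCat.of ((Spec (CommRingCat.of k)).residueField pt))) :=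
    ⟨f.fiberToSpecResidueField pt⟩
  let φ : CommRingCat.of k ⟶ CommRingCat.of ((Spec (CommRingCat.of k)).residueField pt) :=
    Spec.preimage ((Spec (CommRingCat.of k)).fromSpecResidueField pt)
  have hc : IsPullback (f.fiberι pt) (FormalLib.str ((Spec (CommRingCat.of k)).residueField pt) (f.fiber pt))
      (FormalLib.str k X) (Spec.map φ) := by
    rw [Spec.map_preimage]
    exact IsPullback.of_hasPullback f ((Spec (CommRingCat.of k)).fromSpecResidueField pt)
  haveI : IsSeparated (FormalLib.str k X) := inferInstanceAs (IsSeparated (X ↘ Spec (CommRingCat.of k)))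
  haveI : QuasiCompact (FormalLib.str k X) := inferInstanceAs (QuasiCompact (X ↘ Spec (CommRingCat.of k)))
  refine finsum_congr fun p => congrArg (fun z : ℕ => (-1 : ℤ) ^ p * (z : ℤ)) ?_
  exact BCLib.finrank_HH_fieldExt hc (CohB1.tensorMod F (CohB1.tensorPow L m)) p (Iso.refl _)

variable (i : X ⟶ CohB1.ProjSpace n k) [IsClosedImmersion i]

theorem exists_euler_poly_X (hi : i ≫ CohB1.ProjSpace.toSpec n k = X ↘ Spec (CommRingCat.of k))
    {F : X.Modules} (hF : Coh.IsCoh F) :
    ∃ Q : Polynomial ℚ, ∀ t : ℤ, (Curv2.euler k X (Pic13.twistOn k i F t) : ℚ) = Q.eval (t : ℚ) := by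
  haveI : IsProper (CohB1.ProjSpace n k ↘ Spec (CommRingCat.of k)) := CompleteCurve.isProper_toSpec n k
  haveI := isNoetherian_projSpace (k := k) (n := n)
  obtain ⟨Q, hQ⟩ := HilbStratLib.exists_euler_poly (isCoh_push_closed i hF)
  exact ⟨Q, fun t => (congrArg Int.cast (IntLib.euler_push_tensor k hi hF (isInvertible_O t))).symm.trans (hQ t)⟩

theorem regular_and_finite_hilb [IsAlgClosed k] (hi : i ≫ CohB1.ProjSpace.toSpec n k = X ↘ Spec (CommRingCat.of k))
    {P : X.Modules → Prop} (hP : ∀ F, P F → Coh.IsCoh F) (hb : Pic13.IsBounded k X P) :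
    (∃ m : ℤ, ∀ F, P F → Pic13.IsMRegular k i F m) ∧
      ∃ s : Finset (Polynomial ℚ), ∀ F, P F → ∃ φ ∈ s, ∀ d : ℤ,
        (FGA.eulerCharLE k X (Pic13.twistOn k i F d) n : ℚ) = φ.eval (d : ℚ) := by
  classical
  haveI : IsProper (X ↘ Spec (CommRingCat.of k)) := by
    haveI : IsProper (CohB1.ProjSpace.toSpec n k) := CompleteCurve.isProper_toSpec n k
    rw [← hi]; infer_instance
  haveI := EulerIneqLib.isNoetherian_proper (X := X) k
  obtain ⟨a, N, hquot⟩ := exists_uniform_quot i hi hb
  obtain ⟨T, q, hq, hqc, G, hG, hmem⟩ := hb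
  haveI := hq
  haveI := hqc
  haveI : CompactSpace T := QuasiCompact.compactSpace_of_compactSpace q
  haveI : IsLocallyNoetherian T := LocallyOfFiniteType.isLocallyNoetherian q
  let f : Pic13.prodK k X q ⟶ T := pullback.snd _ _
  haveI : IsProper f := MorphismProperty.pullback_snd (P := @IsProper) _ _ inferInstance
  haveI : LocallyOfFinitePresentation f :=
    MorphismProperty.pullback_snd (P := @LocallyOfFinitePresentation) _ _ inferInstance
  haveI : IsLocallyNoetherian (Pic13.prodK k X q) := LocallyOfFiniteType.isLocallyNoetherian f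
  let L := (Scheme.Modules.pullback i).obj (Twist.twistProjSpace n k 1)
  have hL : PicF.IsInvertible L := AmpleLib.isInvertible_pullback i (isInvertible_O 1)
  let L' := (Scheme.Modules.pullback (pullback.fst (X ↘ Spec (CommRingCat.of k)) q)).obj L
  have hfin := HilbStratLib.finite_range f (QCohLib.isFP_of_isCoh G hG) (AmpleLib.isInvertible_pullback (pullback.fst (X ↘ Spec (CommRingCat.of k)) q) hL)
  let mk : (ℕ → ℤ) → Polynomial ℚ := fun g =>
    if h : ∃ Q : Polynomial ℚ, ∀ m : ℕ, (g m : ℚ) = Q.eval (m : ℚ) then h.choose else 0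
  let s : Finset (Polynomial ℚ) := (hfin.image mk).toFinset
  have hs : ∀ F, P F → ∃ φ ∈ s, ∀ d : ℤ, (Curv2.euler k X (Pic13.twistOn k i F d) : ℚ) = φ.eval (d : ℚ) := by
    intro F hF
    obtain ⟨t, ht, ⟨eF⟩⟩ := hmem F hF
    obtain ⟨Q, hQ⟩ := exists_euler_poly_X i hi (hP F hF)
    let σ := Pic13.sliceAt k X q t ht
    have hsq : IsPullback σ (X ↘ Spec (CommRingCat.of k)) f t :=
      IsPullback.of_right (h₁₂ := pullback.fst (X ↘ Spec (CommRingCat.of k)) q) (v₁₃ := X ↘ Spec (CommRingCat.of k))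
        (h₂₂ := q) (by
          rw [show σ ≫ pullback.fst _ _ = 𝟙 X from pullback.lift_fst _ _ _, ht]
          exact IsPullback.id_horiz _)
        (pullback.lift_snd _ _ _) (IsPullback.of_hasPullback (X ↘ Spec (CommRingCat.of k)) q).flip.flip
    let eL : (Scheme.Modules.pullback σ).obj L' ≅ L :=
      (Scheme.Modules.pullbackComp σ _).app L ≪≫ (Scheme.Modules.pullbackCongr (pullback.lift_fst _ _ _)).app L ≪≫
        (Scheme.Modules.pullbackId X).app L
    have hval : ∀ m : ℕ, (HilbStratLib.eul f G L' (t (IsLocalRing.closedPoint k)) m : ℚ) = Q.eval (m : ℚ) := fun m => by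
      rw [← HilbStratLib.eul_baseChange hsq (QCohLib.isFP_of_isCoh G hG)
        (AmpleLib.isInvertible_pullback _ hL) (IsLocalRing.closedPoint k),
        eul_point (PullbackMod.isCoh_pullback σ G hG) (AmpleLib.isInvertible_pullback σ (AmpleLib.isInvertible_pullback _ hL)) m,
        ← Int.cast_natCast m, ← hQ]
      exact congrArg Int.cast (CurveLib.euler_iso (K := k)
        (AmpleLib.tIso eF (AmpleLib.powCongr eL m) ≪≫ twistPowIso i (Iso.refl L) F m))
    refine ⟨mk (HilbStratLib.eul f G L' (t (IsLocalRing.closedPoint k))),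
      (hfin.image mk).mem_toFinset.2 ⟨_, ⟨_, rfl⟩, rfl⟩, fun d => ?_⟩
    have hex : ∃ Q : Polynomial ℚ, ∀ m : ℕ,
        (HilbStratLib.eul f G L' (t (IsLocalRing.closedPoint k)) m : ℚ) = Q.eval (m : ℚ) := ⟨Q, hval⟩
    simp only [mk, dif_pos hex]
    have heq : hex.choose = Q := by
      refine Polynomial.eq_of_infinite_eval_eq _ _ (Set.Infinite.mono (s := Set.range fun m : ℕ => (m : ℚ)) ?_
        (Set.infinite_range_of_injective Nat.cast_injective))
      rintro _ ⟨m, rfl⟩
      show hex.choose.eval _ = Q.eval _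
      rw [← hex.choose_spec m, hval]
    rw [heq, hQ]
  refine ⟨?_, s, fun F hF => ?_⟩
  · choose M hM using fun φ : Polynomial ℚ =>
      quot_bound i hi N (φ.comp (Polynomial.X + Polynomial.C ((a : ℤ) : ℚ)))
    obtain ⟨M₀, hM₀⟩ := (s.finite_toSet.image M).bddAbove
    refine ⟨(a : ℤ) + (M₀ + n), fun F hF p hp => ?_⟩
    obtain ⟨q', hq'⟩ := hquot F hF
    obtain ⟨φ, hφs, hφ⟩ := hs F hF
    have hF' := xIsCoh_twist (k := k) (i := i) (hP F hF) (a : ℤ)
    let e : ∀ j : ℤ, Pic13.twistOn k i (Pic13.twistOn k i F (a : ℤ)) j ≅ Pic13.twistOn k i F ((a : ℤ) + j) :=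
      fun j => xMulIso k i F rfl
    refine @ProjCoh.subsingleton_of_iso _ _ _ (e (M₀ + n - p) ≪≫ eqToIso (by rw [← add_sub_assoc])) p ?_
    rcases le_or_gt p n with hpn | hpn
    · refine ((hM φ) _ q' hF' hq' (fun j => ?_) _ (le_trans (hM₀ ⟨φ, hφs, rfl⟩) (by omega))).1 p (by omega)
      rw [Polynomial.eval_comp, Polynomial.eval_add, Polynomial.eval_X, Polynomial.eval_C,
        show (j : ℚ) + ((a : ℤ) : ℚ) = (((a : ℤ) + j : ℤ) : ℚ) by push_cast; ring, ← hφ]
      exact congrArg Int.cast (CurveLib.euler_iso (K := k) (e j))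
    · exact (HT_push_iff i hF' _ p).1 (vanish_high (isCoh_push_closed i hF') _ hpn)
  · obtain ⟨φ, hφs, hφ⟩ := hs F hF
    exact ⟨φ, hφs, fun d => by rw [eulerCharLE_eq i hi (hP F hF)]; exact hφ d⟩

end Groth.Agent.CMRegLib
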