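import Groth.Agent.CMRegLib.Linear
import Groth.Agent.FlatLocus.ModInjFlat
import Mathlib.RingTheory.Ideal.AssociatedPrime.Finiteness

/-!
# A general linear form over an infinite field
-/

set_option autoImplicit false
set_option linter.style.haveILetI false
set_option backward.isDefEq.respectTransparency false

universe u

open CategoryTheory CategoryTheory.Limits AlgebraicGeometry TopologicalSpace Opposite
open Groth.Agent.DCohLib Groth.Agent.PullbackMod

noncomputable section

namespace Groth.Agent.CMRegLib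

variable {k : Type u} [Field k] {n : ℕ}

local notation "PS" => CohB1.ProjSpace n k
local notation "O(" d ")" => Twist.twistProjSpace n k d

theorem constΓ_add (a b : k) : constΓ n (a + b) = constΓ n a + constΓ n b := by
  rw [constΓ, map_add, map_add]; rfl

theorem constΓ_mul (a b : k) : constΓ n (a * b) = constΓ n a * constΓ n b := by
  rw [constΓ, map_mul, map_mul]; rfl

theorem linRatio_add (i : Fin (n + 1)) (c d : Fin (n + 1) → k) :
    linRatio (c + d) i = linRatio c i + linRatio d i := by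
  rw [linRatio, linRatio, linRatio, ← Finset.sum_add_distrib]
  refine Finset.sum_congr rfl fun v _ => ?_
  rw [Pi.add_apply, constΓ_add, map_add, add_mul]

theorem linRatio_smul (i : Fin (n + 1)) (r : k) (c : Fin (n + 1) → k) :
    linRatio (r • c) i = (PS).presheaf.map (homOfLE le_top).op (constΓ n r) * linRatio c i := by
  rw [linRatio, linRatio, Finset.mul_sum]
  refine Finset.sum_congr rfl fun v _ => ?_
  rw [Pi.smul_apply, smul_eq_mul, constΓ_mul, map_mul, mul_assoc]

theorem linRatio_zero (i : Fin (n + 1)) : linRatio (0 : Fin (n + 1) → k) i = 0 := by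
  refine Finset.sum_eq_zero fun v _ => ?_
  rw [Pi.zero_apply, constΓ, map_zero, map_zero, map_zero, zero_mul]

theorem linRatio_single (i : Fin (n + 1)) :
    IsUnit (linRatio (Pi.single i 1 : Fin (n + 1) → k) i) := by
  rw [linRatio, Finset.sum_eq_single i (fun v _ hv => by
    rw [Pi.single_eq_of_ne hv, constΓ, map_zero, map_zero, map_zero, zero_mul]) (by simp)]
  rw [Pi.single_eq_same, constΓ, map_one, map_one, map_one, one_mul]
  exact unit_of_eq _ (((projData k n (Coh.structureModule PS)).t_open i i).trans (inf_idem _))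
where
  unit_of_eq {X : Scheme.{u}} {U : X.Opens} (f : Γ(X, U)) (h : X.basicOpen f = U) : IsUnit f := by
    have h1 : IsUnit (X.presheaf.map (homOfLE h.ge).op (X.presheaf.map (homOfLE (X.basicOpen_le f)).op f)) :=
      (RingedSpace.isUnit_res_basicOpen X.toRingedSpace f).map (X.presheaf.map (homOfLE h.ge).op).hom
    rwa [← ConcreteCategory.comp_apply, ← Functor.map_comp, ← op_comp,
      Subsingleton.elim (homOfLE _ ≫ homOfLE _) (𝟙 U), op_id, CategoryTheory.Functor.map_id] at h1

/-- The forms whose ratio lies in an ideal. -/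
def formsIn {i : Fin (n + 1)} (p : Ideal Γ(CohB1.ProjSpace n k, AmpleEmb.stdOpen n k i)) :
    Submodule k (Fin (n + 1) → k) where
  carrier := {c | linRatio c i ∈ p}
  add_mem' := fun {c d} hc hd => by
    show linRatio (c + d) i ∈ p
    rw [linRatio_add]; exact add_mem hc hd
  zero_mem' := by
    show linRatio 0 i ∈ p
    rw [linRatio_zero]; exact zero_mem _
  smul_mem' := fun r c hc => by
    show linRatio (r • c) i ∈ p
    rw [linRatio_smul]; exact p.mul_mem_left _ hc

theorem formsIn_ne_top {i : Fin (n + 1)} {p : Ideal Γ(CohB1.ProjSpace n k, AmpleEmb.stdOpen n k i)}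
    (hp : p ≠ ⊤) : formsIn p ≠ ⊤ := fun h =>
  hp (p.eq_top_of_isUnit_mem (show linRatio (Pi.single i (1 : k)) i ∈ p from h.ge (Submodule.mem_top)) (linRatio_single i))

theorem mono_linMap_of_regular {W : (PS).Modules} [Coh.IsQCoh W] {c : Fin (n + 1) → k}
    (h : ∀ i, ∀ z : Γ(W, AmpleEmb.stdOpen n k i), linRatio c i • z = 0 → z = 0) : Mono (linMap c W) := by
  refine (mono_iff_stalk _).2 fun x => (injective_iff_map_eq_zero _).2 fun z hz => ?_
  obtain ⟨i, hx⟩ := exists_mem (k := k) (n := n) x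
  obtain ⟨e, he, hlin⟩ := exists_stalk_linMap c W hx
  rw [hlin] at hz
  refine he.1 (Eq.trans ?_ (map_zero e).symm)
  have hU := AmpleEmb.isAffineOpen_stdOpen n k i
  letI := Module.compHom (W.presheaf.stalk x) ((PS).presheaf.germ (AmpleEmb.stdOpen n k i) x hx).hom
  haveI := FlatLocus.isLocalizedModule_germL W hU x hx
  obtain ⟨⟨m, s⟩, hms⟩ := IsLocalizedModule.surj (hU.primeIdealOf ⟨x, hx⟩).asIdeal.primeCompl
    (FlatLocus.germL W (AmpleEmb.stdOpen n k i) x hx) (e z)
  have h0 : FlatLocus.germL W (AmpleEmb.stdOpen n k i) x hx (linRatio c i • m) = 0 := by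
    rw [map_smul, ← hms, smul_comm]
    show s • ((PS).presheaf.germ _ x hx (linRatio c i) • e z) = 0
    rw [hz, smul_zero]
  obtain ⟨t, ht⟩ := (IsLocalizedModule.eq_zero_iff (hU.primeIdealOf ⟨x, hx⟩).asIdeal.primeCompl
    (FlatLocus.germL W (AmpleEmb.stdOpen n k i) x hx)).1 h0
  have htm : (t : Γ(CohB1.ProjSpace n k, AmpleEmb.stdOpen n k i)) • m = 0 := h i _ (by rw [smul_comm]; exact ht)
  have hu := IsLocalizedModule.map_units (FlatLocus.germL W (AmpleEmb.stdOpen n k i) x hx) (t * s)
  refine ((Module.End.isUnit_iff _).1 hu).1 ?_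
  show ((t : Γ(CohB1.ProjSpace n k, AmpleEmb.stdOpen n k i)) * s) • e z = ((t : Γ(CohB1.ProjSpace n k, AmpleEmb.stdOpen n k i)) * s) • 0
  rw [smul_zero, mul_smul]
  show (t : Γ(CohB1.ProjSpace n k, AmpleEmb.stdOpen n k i)) • s • e z = 0
  rw [hms, ← map_smul, htm, map_zero]

/-- A general linear form avoids a given proper subspace and is a nonzerodivisor on two coherent modules. -/
theorem exists_general [Infinite k] {W Q : (PS).Modules} (hW : Coh.IsCoh W) (hQ : Coh.IsCoh Q)
    {S : Submodule k (Fin (n + 1) → k)} (hS : S ≠ ⊤) :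
    ∃ c : Fin (n + 1) → k, c ∉ S ∧ Mono (linMap c W) ∧ Mono (linMap c Q) := by
  haveI := hW.1
  haveI := hQ.1
  haveI := isNoetherian_projSpace (k := k) (n := n)
  haveI : ∀ i, IsNoetherianRing Γ(CohB1.ProjSpace n k, AmpleEmb.stdOpen n k i) := fun i =>
    IsLocallyNoetherian.component_noetherian ⟨_, AmpleEmb.isAffineOpen_stdOpen n k i⟩
  haveI : ∀ i, Module.Finite Γ(CohB1.ProjSpace n k, AmpleEmb.stdOpen n k i) Γ(W, AmpleEmb.stdOpen n k i) := fun i =>
    QCohLib.finite_sections_of_isCoh hW (AmpleEmb.isAffineOpen_stdOpen n k i)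
  haveI : ∀ i, Module.Finite Γ(CohB1.ProjSpace n k, AmpleEmb.stdOpen n k i) Γ(Q, AmpleEmb.stdOpen n k i) := fun i =>
    QCohLib.finite_sections_of_isCoh hQ (AmpleEmb.isAffineOpen_stdOpen n k i)
  let P := Σ i : Fin (n + 1), ↥(associatedPrimes Γ(CohB1.ProjSpace n k, AmpleEmb.stdOpen n k i) Γ(W, AmpleEmb.stdOpen n k i) ∪
    associatedPrimes Γ(CohB1.ProjSpace n k, AmpleEmb.stdOpen n k i) Γ(Q, AmpleEmb.stdOpen n k i))
  haveI : ∀ i : Fin (n + 1), Finite ↥(associatedPrimes Γ(CohB1.ProjSpace n k, AmpleEmb.stdOpen n k i) Γ(W, AmpleEmb.stdOpen n k i) ∪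
      associatedPrimes Γ(CohB1.ProjSpace n k, AmpleEmb.stdOpen n k i) Γ(Q, AmpleEmb.stdOpen n k i)) := fun i =>
    ((associatedPrimes.finite _ _).union (associatedPrimes.finite _ _)).to_subtype
  let V : Option P → Submodule k (Fin (n + 1) → k) := fun o => o.elim S fun a => formsIn a.2.1
  have hV : ∀ o, V o ≠ ⊤ := by
    rintro (_ | ⟨i, p, hp⟩)
    · exact hS
    · rcases hp with hp | hp
      · exact formsIn_ne_top hp.isPrime.ne_top
      · exact formsIn_ne_top hp.isPrime.ne_top
  obtain ⟨c, hc⟩ := Submodule.exists_forall_notMem_of_forall_ne_top V hV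
  refine ⟨c, hc none, mono_linMap_of_regular fun i z hz => ?_, mono_linMap_of_regular fun i z hz => ?_⟩
  · by_contra hne
    have hmem := (biUnion_associatedPrimes_eq_zero_divisors Γ(CohB1.ProjSpace n k, AmpleEmb.stdOpen n k i)
      Γ(W, AmpleEmb.stdOpen n k i)).ge ⟨z, hne, hz⟩
    obtain ⟨p, hp, hcp⟩ := Set.mem_iUnion₂.1 hmem
    exact hc (some ⟨i, p, Or.inl hp⟩) hcp
  · by_contra hne
    have hmem := (biUnion_associatedPrimes_eq_zero_divisors Γ(CohB1.ProjSpace n k, AmpleEmb.stdOpen n k i)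
      Γ(Q, AmpleEmb.stdOpen n k i)).ge ⟨z, hne, hz⟩
    obtain ⟨p, hp, hcp⟩ := Set.mem_iUnion₂.1 hmem
    exact hc (some ⟨i, p, Or.inr hp⟩) hcp

end Groth.Agent.CMRegLib
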