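import Groth.Agent.CMRegLib.Drop
import Groth.Agent.BCLib.TensorFun
import Groth.Agent.DevLib.Sub
import Groth.Agent.CMRegLib.Seq

/-!
# Multiplication by linear forms
-/

set_option autoImplicit false
set_option linter.style.haveILetI false
set_option backward.isDefEq.respectTransparency false

universe u

open CategoryTheory CategoryTheory.Limits AlgebraicGeometry TopologicalSpace Opposite
open Groth.Agent.DCohLib Groth.Agent.PullbackMod

noncomputable section

namespace Groth.Agent.CMRegLib

variable {k : Type u} [Field k] {n : ℕ}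

local notation "PS" => CohB1.ProjSpace n k
local notation "O(" d ")" => Twist.twistProjSpace n k d

/-- A constant as a global function. -/
def constΓ (n : ℕ) (r : k) : Γ(CohB1.ProjSpace n k, ⊤) :=
  (CohB1.ProjSpace.toSpec n k).appTop ((Scheme.ΓSpecIso (CommRingCat.of k)).inv r)

variable (c : Fin (n + 1) → k)

/-- The linear form as a map on twists. -/
def linTw (F : (PS).Modules) : CohB1.tensorMod F (O(-1)) ⟶ (projData k n F).F 0 :=
  ∑ v, (projData k n F).μ v 0 ≫ Formal.smulModΓ _ (constΓ n (c v))

/-- Multiplication by a linear form. -/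
def linMap (F : (PS).Modules) : CohB1.tensorMod F (O(-1)) ⟶ F := linTw c F ≫ (zeroTwistIso F).hom

/-- The linear form divided by a coordinate. -/
def linRatio (i : Fin (n + 1)) :
    Γ(CohB1.ProjSpace n k, AmpleEmb.stdOpen n k i) :=
  ∑ v, (CohB1.ProjSpace n k).presheaf.map (homOfLE (le_top : AmpleEmb.stdOpen n k i ≤ ⊤)).op (constΓ n (c v)) *
    (show Γ(CohB1.ProjSpace n k, AmpleEmb.stdOpen n k i) from (projData k n (Coh.structureModule (CohB1.ProjSpace n k))).t i v)

theorem stalkLin_linTw (F : (PS).Modules) {i : Fin (n + 1)} {x : PS} (hx : x ∈ AmpleEmb.stdOpen n k i)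
    (z : (CohB1.tensorMod F (O(-1))).presheaf.stalk x) :
    stalkLin (linTw c F) x z =
      (PS).presheaf.germ _ x hx (linRatio c i) • stalkLin ((projData k n F).μ i 0) x z := by
  have e : stalkLin (linTw c F) x z =
      ∑ v, stalkLin ((projData k n F).μ v 0 ≫ Formal.smulModΓ _ (constΓ n (c v))) x z :=
    map_sum (AddMonoidHom.mk' (fun g : CohB1.tensorMod F (O(-1)) ⟶ (projData k n F).F 0 => stalkLin g x z)
      fun g g' => by rw [DevLib.stalkLin_add, LinearMap.add_apply]) _ _
  rw [e, linRatio, map_sum, Finset.sum_smul]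
  refine Finset.sum_congr rfl fun v _ => ?_
  rw [stalkLin_comp, LinearMap.comp_apply, BCLib.stalkLin_smulModΓ, map_mul, mul_smul,
    (projData k n F).ratio i v 0 x hx z, TopCat.Presheaf.germ_res_apply]
  rfl

theorem bijective_zeroTwist (F : (PS).Modules) (x : PS) :
    Function.Bijective (stalkLin (zeroTwistIso F).hom x) :=
  (isIso_iff_stalk _).1 inferInstance x

/-- Multiplication by the linear form is multiplication by its ratio, up to an isomorphism. -/
theorem exists_stalk_linMap (F : (PS).Modules) {i : Fin (n + 1)} {x : PS}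
    (hx : x ∈ AmpleEmb.stdOpen n k i) :
    ∃ e : (CohB1.tensorMod F (O(-1))).presheaf.stalk x →ₗ[(PS).presheaf.stalk x] F.presheaf.stalk x,
      Function.Bijective e ∧ ∀ z, stalkLin (linMap c F) x z = (PS).presheaf.germ _ x hx (linRatio c i) • e z := by
  refine ⟨(stalkLin (zeroTwistIso F).hom x).comp (stalkLin ((projData k n F).μ i 0) x),
    (bijective_zeroTwist F x).comp ((projData k n F).bij i 0 x hx), fun z => ?_⟩
  rw [linMap, stalkLin_comp, LinearMap.comp_apply, stalkLin_linTw c F hx z, map_smul]
  rfl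

theorem exists_mem (x : PS) : ∃ i, x ∈ AmpleEmb.stdOpen n k i :=
  Opens.mem_iSup.1 ((projData k n (Coh.structureModule PS)).cover.ge (Opens.mem_top x))

theorem zeroTwistIso_natural {F G : (PS).Modules} (g : F ⟶ G) :
    (CurveLib.tensR (O(0))).map g ≫ (zeroTwistIso G).hom = (zeroTwistIso F).hom ≫ g := by
  rw [zeroTwistIso, zeroTwistIso, Iso.trans_hom, Iso.trans_hom, ← Category.assoc]
  refine (congrArg (· ≫ _) (((DCoh.tensorBi (X := PS)).map g).naturality _).symm).trans ?_
  rw [Category.assoc, Category.assoc]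
  exact congrArg (_ ≫ ·) ((Groth.Agent.ModTensor.tensorUnitRight (PS).sheaf).hom.naturality g)

theorem linTw_natural {F G : (PS).Modules} (g : F ⟶ G) :
    (CurveLib.tensR (O(-1))).map g ≫ linTw c G = linTw c F ≫ (CurveLib.tensR (O(0))).map g := by
  rw [linTw, linTw, Preadditive.comp_sum, Preadditive.sum_comp]
  refine Finset.sum_congr rfl fun v _ => ?_
  rw [Category.assoc]
  refine Eq.trans ?_ (congrArg ((projData k n F).μ v 0 ≫ ·) (smul_natural ((CurveLib.tensR (O(0))).map g) _))
  rw [← Category.assoc, ← Category.assoc]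
  exact congrArg (· ≫ _) (μ_natural g v 0).symm
where
  smul_natural {X : Scheme.{u}} {M N : X.Modules} (f : M ⟶ N) (r : Γ(X, ⊤)) :
      f ≫ Formal.smulModΓ N r = Formal.smulModΓ M r ≫ f := by
    refine hom_ext_stalk fun x => LinearMap.ext fun z => ?_
    rw [stalkLin_comp, stalkLin_comp, LinearMap.comp_apply, LinearMap.comp_apply, BCLib.stalkLin_smulModΓ,
      BCLib.stalkLin_smulModΓ, map_smul]

theorem linMap_natural {F G : (PS).Modules} (g : F ⟶ G) :
    (CurveLib.tensR (O(-1))).map g ≫ linMap c G = linMap c F ≫ g := by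
  rw [linMap, linMap, Category.assoc, ← zeroTwistIso_natural g, ← Category.assoc, ← Category.assoc,
    linTw_natural c g]

/-- The linear form kills the module. -/
def Killed (W : (PS).Modules) : Prop :=
  ∀ (i : Fin (n + 1)) (x : PS) (hx : x ∈ AmpleEmb.stdOpen n k i) (z : W.presheaf.stalk x),
    (PS).presheaf.germ _ x hx (linRatio c i) • z = 0

theorem Killed.of_epi {V W : (PS).Modules} (q : V ⟶ W) [Epi q] (h : Killed c V) : Killed c W := by
  intro i x hx z
  obtain ⟨w, rfl⟩ := (epi_iff_stalk q).1 inferInstance x z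
  rw [← map_smul, h i x hx w, map_zero]

theorem killed_cokernel (W : (PS).Modules) : Killed c (cokernel (linMap c W)) := by
  intro i x hx z
  obtain ⟨w, rfl⟩ := (epi_iff_stalk (cokernel.π (linMap c W))).1 inferInstance x z
  obtain ⟨e, he, h⟩ := exists_stalk_linMap c W hx
  obtain ⟨w', rfl⟩ := he.2 w
  rw [← map_smul]
  refine (congrArg _ (h w').symm).trans ?_
  rw [← LinearMap.comp_apply, ← stalkLin_comp, cokernel.condition, DevLib.stalkLin_zero, LinearMap.zero_apply]

theorem mono_linMap_of_mono {F W : (PS).Modules} (ι : F ⟶ W) [Mono ι] [Mono (linMap c W)] :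
    Mono (linMap c F) := by
  haveI : Mono ((CurveLib.tensR (O(-1))).map ι) := (shortExact_twSeq (shortExact_coker ι) (-1)).mono_f
  exact mono_of_mono_fac (linMap_natural c ι).symm

end Groth.Agent.CMRegLib
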