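import Groth.Agent.CMRegLib.Reg
import Groth.Agent.AmpleEmb.Generated
import Groth.Agent.ProjBundleLib.FTQuot

/-!
# Multiplication of sections and global generation for regular modules
-/

set_option autoImplicit false
set_option backward.isDefEq.respectTransparency false

universe u

open CategoryTheory CategoryTheory.Limits AlgebraicGeometry TopologicalSpace Opposite
open Groth.Agent.DCohLib Groth.Agent.PullbackMod Groth.Agent.LocFreeHomLib

noncomputable section

namespace Groth.Agent.CMRegLib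

variable {k : Type u} [Field k] {n : ℕ} {F : (CohB1.ProjSpace n k).Modules}

local notation "𝒜" => CohB1.polyGrading n k

theorem mulMap_germ {a b c : ℤ} (h : a + b = c) (x : CohB1.ProjSpace n k) (f : F.presheaf.stalk x)
    (g : (Twist.twistProjSpace n k a).presheaf.stalk x) (t : (Twist.twistProjSpace n k b).presheaf.stalk x) :
    stalkLin (mulMap F h) x (stalkTensor x _ _ (stalkTensor x F _ (f ⊗ₜ g) ⊗ₜ t)) =
      stalkTensor x F (Twist.twistProjSpace n k c)
        (f ⊗ₜ stalkLin (ProjTwistLib.mulPairing 𝒜 a b c h).lift x (stalkTensor x _ _ (g ⊗ₜ t))) := by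
  rw [mulMap, stalkLin_comp, LinearMap.comp_apply, assocMap_stalk, DCohLib.stalkTensor_natural_right,
    LinearMap.lTensor_tmul]
  rfl

theorem germ_mulMap_pairS {a b c : ℤ} (h : a + b = c) (x : CohB1.ProjSpace n k)
    (s : Γ((projData k n F).F a, ⊤)) (t : Γ(Twist.twistProjSpace n k b, ⊤)) :
    ((projData k n F).F c).presheaf.germ ⊤ x trivial ((mulMap F h).app ⊤ (pairS _ _ s t)) =
      stalkLin (mulMap F h) x (stalkTensor x _ _
        (((projData k n F).F a).presheaf.germ ⊤ x trivial s ⊗ₜ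
          (Twist.twistProjSpace n k b).presheaf.germ ⊤ x trivial t)) := by
  refine (stalkLin_germ (mulMap F h) (U := ⊤) x trivial _).symm.trans ?_
  rw [← stalkTensorHom_tmul]
  rfl

/-- The unit section. -/
def oneSec : Γ(Twist.twistProjSpace n k 0, ⊤) :=
  Twist.globalOf 𝒜 (⟨1, SetLike.one_mem_graded _⟩ : 𝒜 0)

theorem mulMap_one {d : ℤ} (s : Γ((projData k n F).F d, ⊤)) :
    (mulMap F (add_zero d)).app ⊤ (pairS _ _ s oneSec) = s := by
  refine TopCat.Presheaf.section_ext (X := (CohB1.ProjSpace n k).toTopCat)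
    ⟨((projData k n F).F d).presheaf, ((projData k n F).F d).isSheaf⟩ ⊤ _ _ fun x _ => ?_
  refine (germ_mulMap_pairS (add_zero d) x s oneSec).trans ?_
  obtain ⟨w, hw⟩ := (stalkTensor x F (Twist.twistProjSpace n k d)).surjective
    (((projData k n F).F d).presheaf.germ ⊤ x trivial s)
  erw [← hw]
  clear hw
  induction w using TensorProduct.induction_on with
  | zero => simp
  | add p q hp hq =>
    rw [map_add, TensorProduct.add_tmul, map_add, map_add]
    exact congrArg₂ (· + ·) hp hq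
  | tmul f g =>
    refine (mulMap_germ (add_zero d) x f g _).trans ?_
    refine congrArg (fun v => stalkTensor x F (Twist.twistProjSpace n k d) (f ⊗ₜ v)) ?_
    obtain ⟨U, hx, g, rfl⟩ := TopCat.Presheaf.exists_germ_eq (Twist.twistProjSpace n k d).presheaf g
    rw [← TopCat.Presheaf.germ_res_apply (Twist.twistProjSpace n k 0).presheaf (homOfLE (le_top : U ≤ ⊤)) x hx oneSec]
    show stalkLin _ x (stalkTensorHom x _) = _
    erw [stalkTensorHom_tmul, stalkLin_germ, ProjTwistLib.Pairing.lift_pairS]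
    refine congrArg _ (ProjTwist.sect_ext fun y => ?_)
    refine (ProjTwistLib.valAt_mulS (add_zero d) g _ y).trans ?_
    exact (congrArg (_ * ·) Localization.mk_one).trans (mul_one _)

theorem lift_mult_app {a b c : ℤ} (v : Fin (n + 1)) (h : a + b = c) (h' : a + (b - 1) = c - 1)
    {U : (CohB1.ProjSpace n k).Opens} (g : Γ(Twist.twistProjSpace n k a, U))
    (t : Γ(Twist.twistProjSpace n k (b - 1), U)) :
    (ProjCoh.mulTwist 𝒜 (AmpleEmb.coordForm n k v) c).app U
        ((ProjTwistLib.mulPairing 𝒜 a (b - 1) (c - 1) h').lift.app U (pairS _ _ g t)) =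
      (ProjTwistLib.mulPairing 𝒜 a b c h).lift.app U
        (pairS _ _ g ((ProjCoh.mulTwist 𝒜 (AmpleEmb.coordForm n k v) b).app U t)) := by
  refine (congrArg _ (ProjTwistLib.Pairing.lift_pairS _ g t)).trans
    (Eq.trans ?_ (ProjTwistLib.Pairing.lift_pairS _ g _).symm)
  refine ProjTwist.sect_ext fun y => ?_
  refine Eq.trans ?_ (ProjTwistLib.valAt_mulS h g _ y).symm
  refine (congrArg (fun q => ProjCoh.mulLoc (AmpleEmb.coordForm n k v).1 y.1 q)
    (ProjTwistLib.valAt_mulS h' g t y)).trans ?_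
  exact mul_left_comm _ _ _

theorem lift_mult {a b c : ℤ} (v : Fin (n + 1)) (h : a + b = c) (h' : a + (b - 1) = c - 1)
    (x : CohB1.ProjSpace n k) (g : (Twist.twistProjSpace n k a).presheaf.stalk x)
    (t : Γ(Twist.twistProjSpace n k (b - 1), ⊤)) :
    stalkLin (ProjCoh.mulTwist 𝒜 (AmpleEmb.coordForm n k v) c) x
        (stalkLin (ProjTwistLib.mulPairing 𝒜 a (b - 1) (c - 1) h').lift x (stalkTensor x _ _
          (g ⊗ₜ (Twist.twistProjSpace n k (b - 1)).presheaf.germ ⊤ x trivial t))) =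
      stalkLin (ProjTwistLib.mulPairing 𝒜 a b c h).lift x (stalkTensor x _ _
          (g ⊗ₜ stalkLin (ProjCoh.mulTwist 𝒜 (AmpleEmb.coordForm n k v) b) x
            ((Twist.twistProjSpace n k (b - 1)).presheaf.germ ⊤ x trivial t))) := by
  obtain ⟨U, hx, g, rfl⟩ := TopCat.Presheaf.exists_germ_eq (Twist.twistProjSpace n k a).presheaf g
  rw [← TopCat.Presheaf.germ_res_apply (Twist.twistProjSpace n k (b - 1)).presheaf
    (homOfLE (le_top : U ≤ ⊤)) x hx t]
  generalize (Twist.twistProjSpace n k (b - 1)).presheaf.map (homOfLE (le_top : U ≤ ⊤)).op t = t'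
  refine Eq.trans (congrArg (fun q => stalkLin (ProjCoh.mulTwist 𝒜 (AmpleEmb.coordForm n k v) c) x
    (stalkLin (ProjTwistLib.mulPairing 𝒜 a (b - 1) (c - 1) h').lift x q)) (stalkTensorHom_tmul x hx g t')) ?_
  refine Eq.trans (congrArg (fun q => stalkLin (ProjCoh.mulTwist 𝒜 (AmpleEmb.coordForm n k v) c) x q)
    (stalkLin_germ _ x hx _)) ?_
  refine (stalkLin_germ _ x hx _).trans ?_
  refine Eq.trans (congrArg _ (lift_mult_app v h h' g t')) ?_
  refine (stalkLin_germ _ x hx _).symm.trans (congrArg _ ?_)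
  refine (stalkTensorHom_tmul x hx g _).symm.trans ?_
  exact congrArg (fun q => stalkTensor x _ _ (_ ⊗ₜ q)) (stalkLin_germ _ x hx t').symm

theorem μ_mulMap {a b c : ℤ} (v : Fin (n + 1)) (h : a + b = c) (h' : a + (b - 1) = c - 1)
    (s : Γ((projData k n F).F a, ⊤)) (t : Γ(Twist.twistProjSpace n k (b - 1), ⊤)) :
    ((projData k n F).μ v c).app ⊤ ((mulMap F h').app ⊤ (pairS _ _ s t)) =
      (mulMap F h).app ⊤ (pairS _ _ s ((ProjCoh.mulTwist 𝒜 (AmpleEmb.coordForm n k v) b).app ⊤ t)) := by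
  refine TopCat.Presheaf.section_ext (X := (CohB1.ProjSpace n k).toTopCat)
    ⟨((projData k n F).F c).presheaf, ((projData k n F).F c).isSheaf⟩ ⊤ _ _ fun x _ => ?_
  refine (stalkLin_germ ((projData k n F).μ v c) (U := ⊤) x trivial _).symm.trans ?_
  erw [germ_mulMap_pairS h' x s t]
  refine Eq.trans ?_ (germ_mulMap_pairS h x s _).symm
  erw [← stalkLin_germ (ProjCoh.mulTwist 𝒜 (AmpleEmb.coordForm n k v) b) (U := ⊤) x trivial t]
  obtain ⟨w, hw⟩ := (stalkTensor x F (Twist.twistProjSpace n k a)).surjective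
    (((projData k n F).F a).presheaf.germ ⊤ x trivial s)
  erw [← hw]
  clear hw
  induction w using TensorProduct.induction_on with
  | zero => simp
  | add p q hp hq =>
    rw [map_add, TensorProduct.add_tmul, map_add, map_add, map_add, TensorProduct.add_tmul, map_add, map_add]
    exact congrArg₂ (· + ·) hp hq
  | tmul f g =>
    erw [mulMap_germ h' x f g, mulMap_germ h x f g]
    refine (DCohLib.stalkTensor_natural_right x _ _).trans ?_
    rw [LinearMap.lTensor_tmul]
    exact congrArg (fun z => stalkTensor x F (Twist.twistProjSpace n k c) (f ⊗ₜ z)) (lift_mult v h h' x g t)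

theorem exists_pairs (hF : Coh.IsCoh F) {m d : ℤ} (h : Curv2.IsMRegular k n F m) (hd : m ≤ d) :
    ∀ (e : ℕ) (b : ℤ), b = e → ∀ (c : ℤ) (hc : d + b = c) (s : Γ((projData k n F).F c, ⊤)),
      s ∈ AddSubgroup.closure (Set.range fun p : Γ((projData k n F).F d, ⊤) × Γ(Twist.twistProjSpace n k b, ⊤) =>
        (mulMap F hc).app ⊤ (pairS _ _ p.1 p.2)) := by
  intro e
  induction e with
  | zero =>
    rintro b rfl c hc s
    obtain rfl : d = c := by simpa using hc
    exact AddSubgroup.subset_closure ⟨(s, oneSec), mulMap_one s⟩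
  | succ e ih =>
    rintro b hb c hc s
    obtain ⟨g, rfl⟩ := sum_surj hF h (show m < c by omega) s
    refine sum_mem fun v _ => ?_
    have := ih (b - 1) (by omega) (c - 1) (by omega) (g v)
    generalize g v = z at this ⊢
    induction this using AddSubgroup.closure_induction with
    | mem z hz =>
      obtain ⟨⟨s, t⟩, rfl⟩ := hz
      exact AddSubgroup.subset_closure
        ⟨(s, (ProjCoh.mulTwist 𝒜 (AmpleEmb.coordForm n k v) b).app ⊤ t), (μ_mulMap v hc (by omega) s t).symm⟩
    | zero => rw [map_zero]; exact zero_mem _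
    | add x y _ _ hx hy => rw [map_add]; exact add_mem hx hy
    | neg x _ hx => rw [map_neg]; exact neg_mem hx

theorem tensor_surj_nat (hF : Coh.IsCoh F) {m d : ℤ} (h : Curv2.IsMRegular k n F m) (hd : m ≤ d) (e : ℕ) :
    Function.Surjective
      ((toSheafify (Opens.grothendieckTopology (CohB1.ProjSpace n k))
        (CohB1.tensorPre (CohB1.tensorMod F (Twist.twistProjSpace n k d))
          (Twist.twistProjSpace n k (e : ℤ))).presheaf).app (Opposite.op ⊤)) := by
  let f := (toSheafify (Opens.grothendieckTopology (CohB1.ProjSpace n k))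
        (CohB1.tensorPre (CohB1.tensorMod F (Twist.twistProjSpace n k d))
          (Twist.twistProjSpace n k (e : ℤ))).presheaf).app (Opposite.op ⊤)
  let θ := (mulMap F (rfl : d + (e : ℤ) = _)).app ⊤
  suffices hs : ∀ (z : Γ(tmod (tmod F (Twist.twistProjSpace n k d)) (Twist.twistProjSpace n k (e : ℤ)), ⊤)),
      ∃ u, f u = z from hs
  intro z
  have hbij := ConcreteCategory.bijective_of_isIso θ
  obtain ⟨z', hz'⟩ : ∃ z', θ z' = θ z ∧ ∃ u, f u = z' := by
    have := exists_pairs hF h hd e (e : ℤ) rfl (d + e) rfl (θ z)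
    generalize θ z = y at this
    induction this using AddSubgroup.closure_induction with
    | mem y hy' =>
      obtain ⟨⟨s, t⟩, rfl⟩ := hy'
      exact ⟨_, rfl, s ⊗ₜ t, rfl⟩
    | zero => exact ⟨0, map_zero _, 0, map_zero _⟩
    | add x y _ _ hx hy' =>
      obtain ⟨zx, hzx, u, hu⟩ := hx
      obtain ⟨zy, hzy, v, hv⟩ := hy'
      exact ⟨zx + zy, by rw [map_add, hzx, hzy], u + v, (map_add _ _ _).trans (congrArg₂ (· + ·) hu hv)⟩
    | neg x _ hx =>
      obtain ⟨zx, hzx, u, hu⟩ := hx
      exact ⟨-zx, by rw [map_neg, hzx], -u, (map_neg _ _).trans (congrArg Neg.neg hu)⟩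
  obtain ⟨u, hu⟩ := hz'.2
  exact ⟨u, hu.trans (hbij.1 hz'.1)⟩

/-- The global sections span the stalks. -/
def Spanned (d : ℤ) (x : CohB1.ProjSpace n k) : Prop :=
  Submodule.span ((CohB1.ProjSpace n k).presheaf.stalk x)
    (Set.range fun σ : Γ(CohB1.tensorMod F (Twist.twistProjSpace n k d), ⊤) =>
      (CohB1.tensorMod F (Twist.twistProjSpace n k d)).presheaf.germ ⊤ x trivial σ) = ⊤

theorem spanned_pred (hF : Coh.IsCoh F) {m d : ℤ} (h : Curv2.IsMRegular k n F m) (hd : m < d)
    (x : CohB1.ProjSpace n k) (hs : Spanned (F := F) d x) : Spanned (F := F) (d - 1) x := by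
  let T := projData k n F
  obtain ⟨i, hx⟩ := Opens.mem_iSup.1 (show x ∈ iSup T.U by rw [T.cover]; trivial)
  refine eq_top_iff.2 fun z _ => ?_
  have hz : stalkLin (T.μ i d) x z ∈ Submodule.map (stalkLin (T.μ i d) x)
      (Submodule.span ((CohB1.ProjSpace n k).presheaf.stalk x)
        (Set.range fun σ : Γ(T.F (d - 1), ⊤) => (T.F (d - 1)).presheaf.germ ⊤ x trivial σ)) := by
    refine (show (⊤ : Submodule _ ((T.F d).presheaf.stalk x)) ≤ _ from hs.ge.trans (Submodule.span_le.2 ?_)) trivial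
    rintro _ ⟨σ, rfl⟩
    obtain ⟨c, rfl⟩ := sum_surj hF h hd σ
    show (T.F d).presheaf.germ ⊤ x trivial _ ∈ _
    rw [map_sum]
    refine sum_mem fun a _ => ?_
    rw [← stalkLin_germ (T.μ a d) (U := ⊤) x trivial, T.ratio i a d x hx]
    exact Submodule.smul_mem _ _ (Submodule.mem_map_of_mem (Submodule.subset_span ⟨_, rfl⟩))
  obtain ⟨w, hw, e⟩ := hz
  exact (T.bij i d x hx).1 e ▸ hw

/-- `O(1)^K ≅ O(K)`. -/
def powTwistIso (K : ℕ) :
    CohB1.tensorPow (Twist.twist 𝒜 1) K ≅ Twist.twist 𝒜 (K : ℤ) :=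
  ProjTwistLib.powIso (hasUnit 1) K ≪≫ eqToIso (congrArg (Twist.twist 𝒜) (mul_one (K : ℤ)))

theorem exists_spanned_twist (hF : Coh.IsCoh F) :
    ∃ N : ℕ, ∀ K : ℕ, N ≤ K → ∀ x, Spanned (F := F) (K : ℤ) x := by
  obtain ⟨N, hN⟩ := AmpleEmb.eventually_isGloballyGenerated (AmpleEmb.isAmple_twistOne n k) hF
  refine ⟨N, fun K hK x => ?_⟩
  exact ProjBundleLib.span_germ_of_isGloballyGenerated
    (AmpleLib.isGloballyGenerated_of_iso (AmpleLib.tIso (Iso.refl F) (powTwistIso K)) (hN K hK)) x

theorem globallyGenerated (hF : Coh.IsCoh F) {m : ℤ} (h : Curv2.IsMRegular k n F m) :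
    Curv2.IsGloballyGenerated (CohB1.tensorMod F (Twist.twistProjSpace n k m)) := by
  obtain ⟨N, hN⟩ := exists_spanned_twist hF
  refine AmpleEmb.isGloballyGenerated_of_span (fun σ => σ) fun x => ?_
  have key : ∀ j : ℕ, Spanned (F := F) (m + j) x → Spanned (F := F) m x := by
    intro j
    induction j with
    | zero => simp
    | succ j ih =>
      intro hj
      refine ih ?_
      have := spanned_pred hF h (by omega) x hj
      rwa [show m + ((j + 1 : ℕ) : ℤ) - 1 = m + j by push_cast; ring] at this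
  have hk := hN (N + m.toNat) (by omega) x
  refine key (((N + m.toNat : ℕ) : ℤ) - m).toNat ?_
  rwa [show m + ((((N + m.toNat : ℕ) : ℤ) - m).toNat : ℤ) = ((N + m.toNat : ℕ) : ℤ) by omega]

end Groth.Agent.CMRegLib
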