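import Groth.Agent.CMRegLib.BoundFree
import Groth.Agent.CMRegLib.EulerPoly
import Groth.Agent.CMRegLib.OnX
import Groth.Agent.IntLib.Push
import Groth.Agent.DevLib.Closed
import Groth.Agent.DCohMore.FinPushRes
import Groth.Agent.SerreAff.Basic
import Groth.Prelude.Def_ShStab

/-!
# A uniform bound for quotients with a given Hilbert polynomial
-/

set_option autoImplicit false
set_option linter.style.haveILetI false
set_option backward.isDefEq.respectTransparency false
set_option maxHeartbeats 400000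

universe u

open CategoryTheory CategoryTheory.Limits AlgebraicGeometry TopologicalSpace Opposite
open Groth.Agent.DCohLib Groth.Agent.PullbackMod

noncomputable section

namespace Groth.Agent.CMRegLib

theorem subsingleton_one_of_surjective {k : Type u} [Field k] {Z : Scheme.{u}} [Z.Over (Spec (CommRingCat.of k))]
    {S : ShortComplex Z.Modules} (hS : S.ShortExact) (h2 : Subsingleton (Coh.HH Z S.X₂ 1))
    (hg : Function.Surjective (CurveLib.hMap (k := k) S.g 0)) : Subsingleton (Coh.HH Z S.X₁ 1) := by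
  haveI := h2
  have h : Function.Injective (CurveLib.hMap (k := k) S.f 1) := by
    rw [← LinearMap.ker_eq_bot, ← CurveLib.range_hδ hS 0, LinearMap.range_eq_bot, ← LinearMap.ker_eq_top,
      ← CurveLib.range_hMap_g hS 0, LinearMap.range_eq_top]
    exact hg
  exact h.subsingleton

theorem hMap_comp {k : Type u} [Field k] {Z : Scheme.{u}} [Z.Over (Spec (CommRingCat.of k))] {A B C : Z.Modules}
    (f : A ⟶ B) (g : B ⟶ C) (p : ℕ) (x : Coh.HH Z A p) :
    CurveLib.hMap (k := k) (f ≫ g) p x = CurveLib.hMap (k := k) g p (CurveLib.hMap (k := k) f p x) := by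
  show Sheaf.H.map _ p x = Sheaf.H.map _ p (Sheaf.H.map _ p x)
  rw [← Sheaf.H.map_comp_apply, ← Functor.map_comp]

variable {k : Type u} [Field k] {n : ℕ} {X : Scheme.{u}} (i : X ⟶ CohB1.ProjSpace n k) [IsClosedImmersion i]

local notation "PS" => CohB1.ProjSpace n k
local notation "O(" d ")" => Twist.twistProjSpace n k d

include i in
theorem isLocallyNoetherian_source : IsLocallyNoetherian X :=
  haveI := isNoetherian_projSpace (k := k) (n := n)
  LocallyOfFiniteType.isLocallyNoetherian i

theorem isCoh_push_closed {M : X.Modules} (hM : Coh.IsCoh M) :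
    Coh.IsCoh ((Scheme.Modules.pushforward i).obj M) := by
  haveI := isNoetherian_projSpace (k := k) (n := n)
  exact DevLib.isCoh_pushforward_closed i hM

theorem HT_push_iff {M : X.Modules} (hM : Coh.IsCoh M) (d : ℤ) (p : ℕ) :
    HT ((Scheme.Modules.pushforward i).obj M) d p ↔ Subsingleton (Coh.HH X (Pic13.twistOn k i M d) p) := by
  haveI := isLocallyNoetherian_source i
  haveI : Coh.IsQCoh (Pic13.twistOn k i M d) :=
    (isCoh_tensor_inv hM (AmpleLib.isInvertible_pullback i (isInvertible_O d))).1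
  obtain ⟨e, -⟩ := ProperFin.exists_pushEquiv i (M := Pic13.twistOn k i M d)
    (fun _ hV m => CohBase.affine_vanishing _ (hV.preimage i) m) p
  constructor
  · intro h
    haveI : Subsingleton (Coh.HH PS ((Scheme.Modules.pushforward i).obj (Pic13.twistOn k i M d)) p) :=
      @ProjCoh.subsingleton_of_iso _ _ _ (projIso i M (O(d))) p h
    exact e.toEquiv.subsingleton
  · intro h
    exact @ProjCoh.subsingleton_of_iso _ _ _ (projIso i M (O(d))).symm p
      (e.toEquiv.symm.subsingleton : Subsingleton (Coh.HH PS _ p))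

theorem exists_epi_free_push (N : ℕ) :
    ∃ α : FlatMod.freeMod PS N ⟶ (Scheme.Modules.pushforward i).obj (FlatMod.freeMod X N), Epi α := by
  haveI := SerreAff.epi_unitToPush i
  haveI : PreservesFiniteCoproducts (Scheme.Modules.pushforward i) := inferInstance
  exact ⟨Limits.Sigma.map (fun _ => ClSub.unitToPush i) ≫
    (PreservesCoproduct.iso (Scheme.Modules.pushforward i) (fun _ : Fin N => Coh.structureModule X)).inv,
    inferInstance⟩

theorem exists_vanish_all {M : X.Modules} (hM : Coh.IsCoh M) :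
    ∃ d₀ : ℤ, ∀ p : ℕ, 0 < p → ∀ d, d₀ ≤ d → HT ((Scheme.Modules.pushforward i).obj M) d p := by
  have key : ∀ b : ℕ, ∃ d₀ : ℤ, ∀ p : ℕ, 0 < p → p ≤ b → ∀ d, d₀ ≤ d →
      HT ((Scheme.Modules.pushforward i).obj M) d p := by
    intro b
    induction b with
    | zero => exact ⟨0, fun p hp hb => by omega⟩
    | succ b ih =>
      obtain ⟨d₀, h⟩ := ih
      obtain ⟨d₁, h₁⟩ := xEventually_vanish k i hM (p := b + 1) (by omega)
      refine ⟨max d₀ d₁, fun p hp hb d hd => ?_⟩
      rcases eq_or_lt_of_le hb with rfl | hlt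
      · exact (HT_push_iff i hM d _).2 (h₁ d (le_trans (le_max_right _ _) hd))
      · exact h p hp (by omega) d (le_trans (le_max_left _ _) hd)
  obtain ⟨d₀, h⟩ := key n
  refine ⟨d₀, fun p hp d hd => ?_⟩
  rcases le_or_gt p n with hn | hn
  exacts [h p hp hn d hd, vanish_high (isCoh_push_closed i hM) d hn]

variable [X.Over (Spec (CommRingCat.of k))]

/-- Quotients of a free module with given Hilbert polynomial have uniformly vanishing twists. -/
theorem quot_bound [Infinite k] (hi : i ≫ CohB1.ProjSpace.toSpec n k = X ↘ Spec (CommRingCat.of k))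
    (N : ℕ) (P : Polynomial ℚ) :
    ∃ M : ℤ, ∀ (F : X.Modules) (q : FlatMod.freeMod X N ⟶ F), Coh.IsCoh F → Epi q →
      (∀ m : ℕ, (Curv2.euler k X (Pic13.twistOn k i F m) : ℚ) = P.eval (m : ℚ)) → ∀ j, M ≤ j →
        (∀ p : ℕ, 0 < p → Subsingleton (Coh.HH X (Pic13.twistOn k i F j) p)) ∧
        (∀ p : ℕ, 0 < p → Subsingleton (Coh.HH X (Pic13.twistOn k i (kernel q) j) p)) ∧
        Curv2.IsGloballyGenerated (Pic13.twistOn k i (kernel q) j) := by
  haveI : IsProper (PS ↘ Spec (CommRingCat.of k)) := CompleteCurve.isProper_toSpec n k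
  haveI := isNoetherian_projSpace (k := k) (n := n)
  haveI := isLocallyNoetherian_source i
  have hfree : Coh.IsCoh (FlatMod.freeMod X N) := isCoh_sigma_fin _ fun _ => DevLib.isCoh_structureModule _
  obtain ⟨α, hα⟩ := exists_epi_free_push i N
  obtain ⟨d₀, hd₀⟩ := exists_vanish_all i hfree
  let f : ℤ → ℤ := fun r => N * Ring.choose (r + n) n - ⌊P.eval (r : ℚ)⌋
  refine ⟨max (max (mumB n N (n + 1) f) d₀) 0 + n + 1, fun F q hF hq hP => ?_⟩
  let j₀ := max (max (mumB n N (n + 1) f) d₀) 0
  have hG : Coh.IsCoh (kernel q) := (QCohLib.isCoh_kernel_cokernel q hfree hF).1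
  let π := (Scheme.Modules.pushforward i).map q
  haveI : Epi π := DCohMore.epi_push_of_qcoh (f := i) hfree.1 hF.1 q
  haveI : Mono ((Scheme.Modules.pushforward i).map (kernel.ι q)) := inferInstance
  have hS : (ShortComplex.mk ((Scheme.Modules.pushforward i).map (kernel.ι q)) π
      (by rw [← Functor.map_comp, kernel.condition, Functor.map_zero])).ShortExact :=
    ShortComplex.ShortExact.mk' (ShortComplex.exact_of_f_is_kernel _
      (isLimitOfHasKernelOfPreservesLimit (Scheme.Modules.pushforward i) q)) inferInstance inferInstance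
  have hF' := isCoh_push_closed i hF
  haveI : Epi (α ≫ π) := epi_comp _ _
  have hK := shortExact_ker (α ≫ π)
  have hKcoh : Coh.IsCoh (kernel (α ≫ π)) :=
    (QCohLib.isCoh_kernel_cokernel (α ≫ π) (isCoh_freeMod N) hF').1
  have hreg : Curv2.IsMRegular k n (kernel (α ≫ π)) (mumB n N (n + 1) f) := by
    rcases Nat.eq_zero_or_pos n with hn | hn
    · intro p hp hpn; omega
    refine regular_of_sub_free (kernel.ι (α ≫ π)) hKcoh f fun r => ?_
    obtain ⟨Q, hQ⟩ := exists_euler_poly ((Scheme.Modules.pushforward i).obj F) hF'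
    have hQP : Q = P := by
      refine Polynomial.eq_of_infinite_eval_eq _ _ (Set.Infinite.mono (s := Set.range fun m : ℕ => (m : ℚ)) ?_
        (Set.infinite_range_of_injective Nat.cast_injective))
      rintro _ ⟨m, rfl⟩
      show Q.eval ((m : ℕ) : ℚ) = P.eval ((m : ℕ) : ℚ)
      rw [← hP m, ← Int.cast_natCast m, ← hQ]
      exact congrArg Int.cast (IntLib.euler_push_tensor k hi hF (isInvertible_O (m : ℤ)))
    have h := euler_tw (kernel.ι (α ≫ π)) (α ≫ π) (kernel.condition _) hK hKcoh (isCoh_freeMod N) hF' r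
    rw [euler_freeMod_tw hn] at h
    show _ = (N : ℤ) * Ring.choose (r + n) n - ⌊P.eval (r : ℚ)⌋
    rw [← hQP, ← hQ r, Int.floor_intCast]
    exact eq_sub_of_add_eq h.symm
  have hbound : ∀ j, j₀ ≤ j → mumB n N (n + 1) f ≤ j ∧ d₀ ≤ j ∧ 0 ≤ j := fun j hj =>
    ⟨le_trans (le_trans (le_max_left _ _) (le_max_left _ _)) hj,
      le_trans (le_trans (le_max_right _ _) (le_max_left _ _)) hj, le_trans (le_max_right _ _) hj⟩
  have hFv : ∀ j, j₀ ≤ j → ∀ p : ℕ, 0 < p → HT ((Scheme.Modules.pushforward i).obj F) j p := fun j hj p hp =>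
    HT.right hK (HT_freeMod N j hp (by have := (hbound j hj).2.2; omega))
      (vanish_ge hKcoh hreg (by omega) (by have := (hbound j hj).1; omega))
  have hGv : ∀ j, j₀ ≤ j → ∀ p : ℕ, 0 < p → HT ((Scheme.Modules.pushforward i).obj (kernel q)) j p := by
    intro j hj p hp
    obtain ⟨b, rfl⟩ : ∃ b, p = b + 1 := ⟨p - 1, by omega⟩
    rcases Nat.eq_zero_or_pos b with rfl | hb
    · refine subsingleton_one_of_surjective (k := k) (shortExact_twSeq hS j) (hd₀ 1 one_pos j (hbound j hj).2.1) ?_
      intro z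
      have hT := shortExact_twSeq hK j
      haveI : Subsingleton (Coh.HH PS (twSeq (ShortComplex.mk _ (α ≫ π) (kernel.condition _)) j).X₁ (0 + 1)) :=
        vanish_ge hKcoh hreg le_rfl (by have := (hbound j hj).1; omega)
      have hsurj : Function.Surjective
          (CurveLib.hMap (k := k) ((CurveLib.tensR (O(j))).map (α ≫ π)) 0) := by
        refine LinearMap.range_eq_top.1 ?_
        refine (CurveLib.range_hMap_g hT 0).trans ?_
        rw [LinearMap.ker_eq_top]
        exact LinearMap.ext fun _ => Subsingleton.elim _ _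
      obtain ⟨y, hy⟩ := hsurj z
      refine ⟨CurveLib.hMap (k := k) ((CurveLib.tensR (O(j))).map α) 0 y, ?_⟩
      refine Eq.trans ?_ hy
      refine Eq.trans ?_ (congrArg (fun φ => CurveLib.hMap (k := k) φ 0 y)
        ((CurveLib.tensR (O(j))).map_comp α π).symm)
      exact (hMap_comp _ _ 0 y).symm
    · exact HT.left hS (hd₀ _ hp j (hbound j hj).2.1) (hFv j hj b hb)
  intro j hj
  have hj' : j₀ ≤ j := by simp only [j₀]; omega
  refine ⟨fun p hp => (HT_push_iff i hF j p).1 (hFv j hj' p hp),
    fun p hp => (HT_push_iff i hG j p).1 (hGv j hj' p hp), ?_⟩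
  have hD : DataReg (xData k i (kernel q)) j := fun p hp => (HT_push_iff i hG (j - p) p).1 <| by
    rcases le_or_gt p (n + 1) with hn | hn
    · exact hGv _ (by simp only [j₀]; omega) p hp
    · exact vanish_high (isCoh_push_closed i hG) _ (by omega)
  exact hD.globallyGenerated (spanAt_eventually k i hG)

/-- The twist by a natural power of `L ≅ i^* O(1)`. -/
def twistPowIso {L : X.Modules} (e : L ≅ (Scheme.Modules.pullback i).obj (O(1))) (F : X.Modules) (m : ℕ) :
    ShStab.twist X L F m ≅ Pic13.twistOn k i F (m : ℤ) :=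
  AmpleLib.tIso (Iso.refl F) (AmpleLib.powCongr e m ≪≫ (AmpleLib.pullPow i _ m).symm ≪≫
    (Scheme.Modules.pullback i).mapIso (powTwistIso m))

end Groth.Agent.CMRegLib
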