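import Groth.Agent.CMRegLib.Koszul
import Groth.Agent.AmpleEmb.TwistOne
import Groth.Agent.ProjTwistLib.Ample
import Groth.Agent.ProjTwist.Vanish
import Groth.Agent.LocFreeHomLib.Coherence
import Groth.Prelude.Def_Curv2

/-!
# Castelnuovo–Mumford regularity
-/

set_option autoImplicit false
set_option backward.isDefEq.respectTransparency false

universe u

open CategoryTheory CategoryTheory.Limits AlgebraicGeometry TopologicalSpace Opposite
open Groth.Agent.DCohLib Groth.Agent.PullbackMod Groth.Agent.LocFreeHomLib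

noncomputable section

namespace Groth.Agent.CMRegLib

variable (k : Type u) [Field k] (n : ℕ) (F : (CohB1.ProjSpace n k).Modules)

/-- The twists of a module with multiplication by coordinates. -/
def projData : ProjCoh.MulData (CohB1.ProjSpace n k) (Fin (n + 1)) :=
  (ProjCoh.twistMulData (CohB1.polyGrading n k) (AmpleEmb.coordForm n k) (AmpleEmb.iSup_stdOpen n k)).tensor F

theorem projData_F (d : ℤ) : (projData k n F).F d = CohB1.tensorMod F (Twist.twistProjSpace n k d) := rfl

variable {k n F}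

/-- The zeroth twist. -/
def zeroTwistIso (F : (CohB1.ProjSpace n k).Modules) : (projData k n F).F 0 ≅ F :=
  ((DCoh.tensorBi (X := CohB1.ProjSpace n k)).obj F).mapIso
    (asIso (ProjCoh.unitToTwist (CohB1.polyGrading n k))).symm ≪≫ DCohLib.tensorStructureIso F

/-- The twisted family. -/
def projTwistData (hF : Coh.IsCoh F) : ProjCoh.TwistData (CohB1.ProjSpace n k) (Fin (n + 1)) :=
  (projData k n F).toTwistData (ProjCoh.isCoh_of_iso (zeroTwistIso F).symm hF).1
    fun S hS => ProjCoh.isAffineOpen_inf (CohB1.polyGrading n k) (AmpleEmb.coordForm n k) S hS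

theorem vanish_high (hF : Coh.IsCoh F) (d : ℤ) {p : ℕ} (hp : n < p) :
    Subsingleton (Coh.HH (CohB1.ProjSpace n k) (CohB1.tensorMod F (Twist.twistProjSpace n k d)) p) := by
  obtain ⟨q, rfl⟩ : ∃ q, p = q + 1 := ⟨p - 1, by omega⟩
  exact (projTwistData hF).subsingleton_HH_of_card_le d q (by simp; omega)

theorem vanish (hF : Coh.IsCoh F) {m : ℤ} (h : Curv2.IsMRegular k n F m) {i : ℕ} (hi : 1 ≤ i) :
    Subsingleton (Coh.HH (CohB1.ProjSpace n k) (CohB1.tensorMod F (Twist.twistProjSpace n k (m - i))) i) := by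
  rcases le_or_gt i n with hn | hn
  exacts [h i hi hn, vanish_high hF _ hn]

theorem regular_succ (hF : Coh.IsCoh F) {m : ℤ} (h : Curv2.IsMRegular k n F m) :
    Curv2.IsMRegular k n F (m + 1) := fun i hi _ =>
  koszul_vanish (projData k n F) (m + 1 - i) i fun e => by
    rw [show m + 1 - (i : ℤ) - ((1 + e : ℕ) : ℤ) = m - ((i + e : ℕ) : ℤ) by push_cast; ring]
    exact vanish hF h (by omega)

theorem regular_mono (hF : Coh.IsCoh F) {m m' : ℤ} (hm : m ≤ m') (h : Curv2.IsMRegular k n F m) :
    Curv2.IsMRegular k n F m' := by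
  induction m', hm using Int.le_induction with
  | base => exact h
  | succ j _ ih => exact regular_succ hF ih

theorem vanish_ge (hF : Coh.IsCoh F) {m : ℤ} (h : Curv2.IsMRegular k n F m) {i : ℕ} (hi : 1 ≤ i) {d : ℤ}
    (hd : m - i ≤ d) :
    Subsingleton (Coh.HH (CohB1.ProjSpace n k) (CohB1.tensorMod F (Twist.twistProjSpace n k d)) i) := by
  have := vanish hF (regular_mono hF (show m ≤ d + i by omega) h) hi
  rwa [add_sub_cancel_right] at this

theorem sum_surj (hF : Coh.IsCoh F) {m : ℤ} (h : Curv2.IsMRegular k n F m) {d : ℤ} (hd : m < d)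
    (s : Γ((projData k n F).F d, ⊤)) : mulSum (projData k n F) d s :=
  koszul_surj (projData k n F) d (fun e => vanish_ge hF h (by omega) (by push_cast; omega)) s

variable (k n)

/-- A coordinate as a section of `O(1)`. -/
abbrev coordGlobal (a : Fin (n + 1)) : Γ(Twist.twist (CohB1.polyGrading n k) 1, ⊤) :=
  Twist.globalOf (CohB1.polyGrading n k) (AmpleEmb.coordForm n k a)

variable {k n} (F)

/-- `F(a) ⊗ O(b) ⟶ F(a+b)`. -/
def mulMap {a b c : ℤ} (h : a + b = c) :
    tmod (tmod F (Twist.twistProjSpace n k a)) (Twist.twistProjSpace n k b) ⟶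
      tmod F (Twist.twistProjSpace n k c) :=
  assocMap F _ _ ≫ ((DCoh.tensorBi (X := CohB1.ProjSpace n k)).obj F).map
    (ProjTwistLib.mulPairing (CohB1.polyGrading n k) a b c h).lift

theorem hasUnit (d : ℤ) (x : Proj (CohB1.polyGrading n k)) : ProjTwistLib.HasUnit (CohB1.polyGrading n k) d x :=
  ProjTwistLib.hasUnit_one_of_cover (top_le_iff.1 ((AmpleEmb.iSup_stdOpen n k).ge.trans
    (iSup_le fun a => le_iSup_of_le (AmpleEmb.coordForm n k a) le_rfl))) d x

instance isIso_mulMap {a b c : ℤ} (h : a + b = c) : IsIso (mulMap F h) := by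
  haveI : IsIso (ProjTwistLib.mulPairing (CohB1.polyGrading n k) a b c h).lift :=
    ProjTwistLib.isIso_mul h (hasUnit a)
  unfold mulMap assocMap
  infer_instance

theorem stalk_lift_mulTwist {d : ℤ} (a : Fin (n + 1)) (x : CohB1.ProjSpace n k)
    (g : (Twist.twistProjSpace n k (d - 1)).presheaf.stalk x) :
    stalkLin (ProjTwistLib.mulPairing (CohB1.polyGrading n k) (d - 1) 1 d (sub_add_cancel d 1)).lift x
        (stalkTensor x _ _ (g ⊗ₜ (Twist.twistProjSpace n k 1).presheaf.germ ⊤ x trivial (coordGlobal k n a))) =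
      stalkLin (ProjCoh.mulTwist (CohB1.polyGrading n k) (AmpleEmb.coordForm n k a) d) x g := by
  obtain ⟨U, hx, g, rfl⟩ := TopCat.Presheaf.exists_germ_eq (Twist.twistProjSpace n k (d - 1)).presheaf g
  rw [← TopCat.Presheaf.germ_res_apply (Twist.twistProjSpace n k 1).presheaf (homOfLE (le_top : U ≤ ⊤)) x hx
    (coordGlobal k n a)]
  show stalkLin _ x (stalkTensorHom x _) = _
  erw [stalkTensorHom_tmul, stalkLin_germ, stalkLin_germ, ProjTwistLib.Pairing.lift_pairS]
  refine congrArg _ (ProjTwist.sect_ext fun y => ?_)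
  exact (ProjTwistLib.valAt_mulS (sub_add_cancel d 1) g _ y).trans (mul_comm _ _)

theorem mulMap_pairS {d : ℤ} (a : Fin (n + 1)) (s : Γ((projData k n F).F (d - 1), ⊤)) :
    (mulMap F (sub_add_cancel d 1)).app ⊤ (pairS _ _ s (coordGlobal k n a)) =
      ((projData k n F).μ a d).app ⊤ s := by
  refine TopCat.Presheaf.section_ext (X := (CohB1.ProjSpace n k).toTopCat)
    ⟨((projData k n F).F d).presheaf, ((projData k n F).F d).isSheaf⟩ ⊤ _ _ fun x hx => ?_
  refine (stalkLin_germ (mulMap F (sub_add_cancel d 1)) x hx _).symm.trans (Eq.trans ?_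
    (stalkLin_germ ((projData k n F).μ a d) x hx s))
  rw [← stalkTensorHom_tmul]
  obtain ⟨w, hw⟩ := (stalkTensor x F (Twist.twistProjSpace n k (d - 1))).surjective
    (((projData k n F).F (d - 1)).presheaf.germ ⊤ x hx s)
  erw [← hw]
  show stalkLin (mulMap F _) x (stalkTensor x _ _ _) = _
  clear hw
  induction w using TensorProduct.induction_on with
  | zero => simp
  | add p q hp hq =>
    rw [map_add, TensorProduct.add_tmul, map_add, map_add, hp, hq]
    exact (map_add _ _ _).symm
  | tmul f g =>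
    rw [mulMap, stalkLin_comp, LinearMap.comp_apply, assocMap_stalk,
      DCohLib.stalkTensor_natural_right, LinearMap.lTensor_tmul]
    erw [stalk_lift_mulTwist]
    exact (DCohLib.stalkTensor_natural_right x _ (f ⊗ₜ g)).symm

variable {F}

theorem tensor_surj (hF : Coh.IsCoh F) {m : ℤ} (h : Curv2.IsMRegular k n F m) {d : ℤ} (hd : m ≤ d) :
    Function.Surjective
      ((toSheafify (Opens.grothendieckTopology (CohB1.ProjSpace n k))
        (CohB1.tensorPre (CohB1.tensorMod F (Twist.twistProjSpace n k d))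
          (Twist.twistProjSpace n k 1)).presheaf).app (Opposite.op ⊤)) := by
  obtain ⟨d, rfl⟩ : ∃ e, d = e - 1 := ⟨d + 1, by ring⟩
  intro z
  obtain ⟨c, hc⟩ := sum_surj hF h (show m < d by omega) ((mulMap F (sub_add_cancel d 1)).app ⊤ z)
  have e : z = ∑ a, pairS _ _ (c a) (coordGlobal k n a) := by
    apply (ConcreteCategory.bijective_of_isIso ((mulMap F (sub_add_cancel d 1)).app ⊤)).1
    rw [hc, map_sum]
    exact Finset.sum_congr rfl fun a _ => (mulMap_pairS F a (c a)).symm
  rw [e]
  refine ⟨∑ a, (c a) ⊗ₜ coordGlobal k n a, ?_⟩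
  rw [map_sum]
  rfl

end Groth.Agent.CMRegLib
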